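import Groth.Agent.W7Cech.FlatBCSep
import Groth.Agent.W7Cech.RpushSec
import Groth.Agent.RefStalk.Eval
import Groth.Agent.CohFinite.Proper

/-!
The stalk of a higher direct image is the cohomology over the local ring.
-/

set_option autoImplicit false
set_option backward.isDefEq.respectTransparency false
set_option backward.isDefEq.respectTransparency.types false
set_option linter.style.haveILetI false
set_option maxHeartbeats 2000000

universe u

open CategoryTheory CategoryTheory.Limits AlgebraicGeometry TopologicalSpace Opposite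
open scoped TensorProduct

noncomputable section

namespace Groth.Agent.W7Rees

variable {X Y : Scheme.{u}} (f : X ⟶ Y) [IsProper f] [HasInjectiveResolutions X.Modules]

set_option maxHeartbeats 4000000 in
/-- `(R^p f_*F)_y ≅ H^p(X ×_Y Spec O_y, F)`. -/
theorem nonempty_stalk_hh (F : X.Modules) (hF : Coh.IsQCoh F) (y : Y) (p : ℕ)
    (X₁ : Scheme.{u}) [X₁.Over (Spec (CommRingCat.of (Y.presheaf.stalk y)))] (g : X₁ ⟶ X)
    (hsq : IsPullback g (X₁ ↘ Spec (CommRingCat.of (Y.presheaf.stalk y))) f (Y.fromSpecStalk y)) :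
    Nonempty ((((Coh.Rpush f p).obj F).presheaf.stalk y : Type u) ≃ₗ[Y.presheaf.stalk y]
      Coh.HH X₁ ((Scheme.Modules.pullback g).obj F) p) := by
  obtain ⟨V, hV, hyV, -⟩ := exists_isAffineOpen_mem_and_subset (x := y) (U := ⊤) trivial
  let R := (Coh.Rpush f p).obj F
  have hR : Coh.IsQCoh R := RPushQC.isQCoh_rpush f F hF p
  let A : Type u := Γ(Y, V)
  let B : Type u := Y.presheaf.stalk y
  letI : Algebra A B := (Y.presheaf.germ V y hyV).hom.toAlgebra
  haveI hloc := hV.isLocalization_stalk ⟨y, hyV⟩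
  haveI : Module.Flat A B := IsLocalization.flat B (hV.primeIdealOf ⟨y, hyV⟩).asIdeal.primeCompl
  let W : X.Opens := f ⁻¹ᵁ V
  letI : W.toScheme.Over (Spec (CommRingCat.of A)) := ⟨(f ∣_ V) ≫ hV.isoSpec.hom⟩
  obtain ⟨e₁⟩ := W7Cech.nonempty_rpush_sections f F hF p hV
  haveI : IsProper (W.toScheme ↘ Spec (CommRingCat.of A)) :=
    inferInstanceAs (IsProper ((f ∣_ V) ≫ hV.isoSpec.hom))
  haveI : CompactSpace W.toScheme := QuasiCompact.compactSpace_of_compactSpace (W.toScheme ↘ Spec (CommRingCat.of A))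
  haveI : W.toScheme.IsSeparated := by
    constructor
    rw [← terminal.comp_from (W.toScheme ↘ Spec (CommRingCat.of A))]
    infer_instance
  have hspec : Spec.map (CommRingCat.ofHom (algebraMap A B)) ≫ hV.fromSpec = Y.fromSpecStalk y :=
    hV.fromSpecStalk_eq_fromSpecStalk hyV
  let gV : X₁ ⟶ W.toScheme := IsOpenImmersion.lift W.ι g (by
    rw [Scheme.Opens.range_ι]
    rintro _ ⟨z, rfl⟩
    change f (g z) ∈ V
    rw [← Scheme.Hom.comp_apply, hsq.w, ← hspec, Scheme.Hom.comp_apply, Scheme.Hom.comp_apply]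
    exact (hV.opensRange_fromSpec.le ⟨_, rfl⟩ : _))
  have hgV : gV ≫ W.ι = g := IsOpenImmersion.lift_fac _ _ _
  have hW : IsPullback W.ι (W.toScheme ↘ Spec (CommRingCat.of A)) f hV.fromSpec :=
    IsPullback.of_iso (isPullback_morphismRestrict f V).flip (Iso.refl _) (Iso.refl _) hV.isoSpec (Iso.refl _)
      ((Category.comp_id _).trans (Category.id_comp _).symm) ((Category.id_comp _).symm) (by simp) (by simp)
  have sq : IsPullback gV (X₁ ↘ Spec (CommRingCat.of B)) (W.toScheme ↘ Spec (CommRingCat.of A))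
      (Spec.map (CommRingCat.ofHom (algebraMap A B))) := by
    refine IsPullback.of_right (by rw [hgV, hspec]; exact hsq) ?_ hW
    refine (cancel_mono hV.fromSpec).1 ?_
    rw [Category.assoc, ← hW.w, ← Category.assoc, hgV, hsq.w, Category.assoc, hspec]
  obtain ⟨e₂⟩ := W7Cech.nonempty_hh_flatBC A B gV sq (F.restrict W.ι) (QC.isQCoh_restrict W.ι hF) p
  let ι' : (Scheme.Modules.pullback gV).obj (F.restrict W.ι) ≅ (Scheme.Modules.pullback g).obj F :=
    (Scheme.Modules.pullback gV).mapIso ((Scheme.Modules.restrictFunctorIsoPullback W.ι).app F) ≪≫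
      (Scheme.Modules.pullbackComp gV W.ι).app F ≪≫ (Scheme.Modules.pullbackCongr hgV).app F
  letI := Module.compHom (R.presheaf.stalk y) (Y.presheaf.germ V y hyV).hom
  haveI : IsScalarTower A B (R.presheaf.stalk y) := IsScalarTower.of_algebraMap_smul fun _ _ => rfl
  obtain ⟨γ, hγ, -⟩ := RefStalk.exists_loc (F := R) hV hR hyV
  haveI := hγ
  have hbc : IsBaseChange B γ :=
    IsLocalizedModule.isBaseChange (hV.primeIdealOf ⟨y, hyV⟩).asIdeal.primeCompl B γ
  exact ⟨hbc.equiv.symm ≪≫ₗ TensorProduct.AlgebraTensorModule.congr (LinearEquiv.refl B B) e₁ ≪≫ₗ e₂ ≪≫ₗ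
    CohFinite.hhEquiv B ι' p⟩

end Groth.Agent.W7Rees
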