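import Mathlib.RingTheory.Filtration
import Mathlib.RingTheory.Noetherian.Basic
import Mathlib.Algebra.Module.Submodule.Pointwise
import Mathlib.LinearAlgebra.FreeModule.Finite.Basic
import Mathlib.Algebra.Module.FinitePresentation

/-!
Artin–Rees for modules of homomorphisms.
-/

set_option autoImplicit false

universe u

noncomputable section

namespace Groth.Agent.W7Rees

variable {R : Type u} [CommRing R] [IsNoetherianRing R] (J : Ideal R)
  (M N : Type u) [AddCommGroup M] [Module R M] [Module.Finite R M] [AddCommGroup N] [Module R N]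
  [Module.Finite R N]

/-- Maps close to zero are small, and maps into `N/J^mN` lift up to a bounded loss. -/
theorem exists_homAR :
    ∃ c : ℕ, ∀ m : ℕ,
      (∀ h : M →ₗ[R] N, (∀ x, h x ∈ (J ^ m • ⊤ : Submodule R N)) →
        h ∈ (J ^ (m - c) • ⊤ : Submodule R (M →ₗ[R] N))) ∧
      ∀ g : M →ₗ[R] N ⧸ (J ^ m • ⊤ : Submodule R N), ∃ h : M →ₗ[R] N, ∀ x, ∀ y : N,
        Submodule.Quotient.mk y = g x → h x - y ∈ (J ^ (m - c) • ⊤ : Submodule R N) := by
  classical
  obtain ⟨k, π, hπ⟩ := Module.Finite.exists_fin' R M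
  obtain ⟨l, ρ, hρ⟩ : ∃ (l : ℕ) (ρ : (Fin l → R) →ₗ[R] Fin k → R), LinearMap.range ρ = LinearMap.ker π := by
    obtain ⟨l, τ, hτ⟩ := Module.Finite.exists_fin' R (LinearMap.ker π)
    exact ⟨l, (LinearMap.ker π).subtype ∘ₗ τ, by
      rw [LinearMap.range_comp, LinearMap.range_eq_top.2 hτ, Submodule.map_top, Submodule.range_subtype]⟩
  let b : Fin k → Fin k → R := fun i => Pi.single i 1
  let d : (Fin k → N) →ₗ[R] Fin l → N :=
    LinearMap.pi fun j => ∑ i, ρ (Pi.single j 1) i • LinearMap.proj i
  let ev : (M →ₗ[R] N) →ₗ[R] Fin k → N := LinearMap.pi fun i => LinearMap.applyₗ (π (b i))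
  have hsum : ∀ c : Fin k → R, c = ∑ i, c i • b i := fun c => pi_eq_sum_univ' c
  have hker : LinearMap.range ev = LinearMap.ker d := by
    refine le_antisymm ?_ fun y hy => ?_
    · rintro _ ⟨h, rfl⟩
      refine LinearMap.mem_ker.2 (funext fun j => ?_)
      have h0 : π (ρ (Pi.single j 1)) = 0 := LinearMap.mem_ker.1 (hρ.le ⟨_, rfl⟩)
      have h1 := congrArg (fun c => h (π c)) (hsum (ρ (Pi.single j 1)))
      simp only [map_sum, map_smul, h0, map_zero] at h1
      rw [Pi.zero_apply]
      refine Eq.trans ?_ h1.symm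
      simp [d, ev, b]
    · let Λ : (Fin k → R) →ₗ[R] N := Fintype.linearCombination R y
      have hle : LinearMap.ker π ≤ LinearMap.ker Λ := by
        rw [← hρ]
        rintro _ ⟨z, rfl⟩
        have hzero : Λ ∘ₗ ρ = 0 := by
          refine LinearMap.pi_ext' fun j => LinearMap.ext_ring ?_
          have := congrFun (LinearMap.mem_ker.1 hy) j
          simpa [Λ, d, Fintype.linearCombination_apply] using this
        exact congr($hzero z)
      refine ⟨(LinearMap.ker π).liftQ Λ hle ∘ₗ (π.quotKerEquivOfSurjective hπ).symm.toLinearMap,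
        funext fun i => ?_⟩
      have e : (π.quotKerEquivOfSurjective hπ).symm (π (b i)) = Submodule.Quotient.mk (b i) :=
        (LinearEquiv.symm_apply_eq _).2 rfl
      change (LinearMap.ker π).liftQ Λ hle ((π.quotKerEquivOfSurjective hπ).symm (π (b i))) = y i
      rw [e, Submodule.liftQ_apply]
      simp [Λ, b, Fintype.linearCombination_apply_single]
  have hev : Function.Injective ev := fun h h' e => LinearMap.ext fun x => by
    obtain ⟨c, rfl⟩ := hπ x
    rw [hsum c, map_sum, map_sum, map_sum]
    refine Finset.sum_congr rfl fun i _ => ?_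
    rw [map_smul, map_smul, map_smul]
    exact congrArg (c i • ·) (congrFun e i)
  obtain ⟨c₁, hc₁⟩ := J.exists_pow_inf_eq_pow_smul (LinearMap.range ev)
  obtain ⟨c₂, hc₂⟩ := J.exists_pow_inf_eq_pow_smul (LinearMap.range d)
  have hpi : ∀ (n : ℕ) (y : Fin k → N), (∀ i, y i ∈ (J ^ n • ⊤ : Submodule R N)) →
      y ∈ (J ^ n • ⊤ : Submodule R (Fin k → N)) := fun n y hy => by
    rw [← Finset.univ_sum_single y]
    refine Submodule.sum_mem _ fun i _ => ?_
    have hm := Submodule.mem_map_of_mem (f := LinearMap.single R (fun _ : Fin k => N) i) (hy i)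
    rw [Submodule.map_smul''] at hm
    exact Submodule.smul_mono le_rfl le_top hm
  have hproj : ∀ (n : ℕ) (y : Fin k → N), y ∈ (J ^ n • ⊤ : Submodule R (Fin k → N)) →
      ∀ i, y i ∈ (J ^ n • ⊤ : Submodule R N) := fun n y hy i => by
    have hm := Submodule.mem_map_of_mem (f := LinearMap.proj i) hy
    rw [Submodule.map_smul''] at hm
    exact Submodule.smul_mono le_rfl le_top hm
  refine ⟨c₁ + c₂, fun m => ⟨fun h hh => ?_, fun g => ?_⟩⟩
  · by_cases hm : c₁ ≤ m
    · have h1 : ev h ∈ J ^ m • (⊤ : Submodule R (Fin k → N)) ⊓ LinearMap.range ev :=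
        ⟨hpi m _ fun i => hh _, h, rfl⟩
      rw [hc₁ m hm] at h1
      have h2 : ev h ∈ (J ^ (m - c₁) • ⊤ : Submodule R (M →ₗ[R] N)).map ev := by
        rw [Submodule.map_smul'', Submodule.map_top]
        exact Submodule.smul_mono le_rfl inf_le_right h1
      obtain ⟨h', hh', e⟩ := h2
      obtain rfl := hev e
      exact Submodule.smul_mono (Ideal.pow_le_pow_right (by omega)) le_rfl hh'
    · rw [show m - (c₁ + c₂) = 0 by omega, pow_zero, Ideal.one_eq_top, Submodule.top_smul]
      trivial
  · by_cases hm : c₂ ≤ m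
    · choose y hy using fun i => Submodule.Quotient.mk_surjective _ (g (π (b i)))
      have h1 : d y ∈ J ^ m • (⊤ : Submodule R (Fin l → N)) ⊓ LinearMap.range d := by
        refine ⟨?_, y, rfl⟩
        rw [← Finset.univ_sum_single (d y)]
        refine Submodule.sum_mem _ fun j _ => ?_
        have hj : d y j ∈ (J ^ m • ⊤ : Submodule R N) := by
          rw [← Submodule.Quotient.mk_eq_zero, ← Submodule.mkQ_apply]
          have h0 : π (ρ (Pi.single j 1)) = 0 := LinearMap.mem_ker.1 (hρ.le ⟨_, rfl⟩)
          have h1 := congrArg (fun c => g (π c)) (hsum (ρ (Pi.single j 1)))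
          simp only [map_sum, map_smul, h0, map_zero] at h1
          refine Eq.trans ?_ h1.symm
          simp [d, ← hy]
        have hm' := Submodule.mem_map_of_mem (f := LinearMap.single R (fun _ : Fin l => N) j) hj
        rw [Submodule.map_smul''] at hm'
        exact Submodule.smul_mono le_rfl le_top hm'
      rw [hc₂ m hm] at h1
      have h2 : d y ∈ (J ^ (m - c₂) • ⊤ : Submodule R (Fin k → N)).map d := by
        rw [Submodule.map_smul'', Submodule.map_top]
        exact Submodule.smul_mono le_rfl inf_le_right h1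
      obtain ⟨w, hw, hdw⟩ := h2
      obtain ⟨h, hh⟩ : y - w ∈ LinearMap.range ev := by
        rw [hker, LinearMap.mem_ker, map_sub, hdw, sub_self]
      refine ⟨h, fun x z hz => ?_⟩
      obtain ⟨c, rfl⟩ := hπ x
      have hle : (J ^ m • ⊤ : Submodule R N) ≤ J ^ (m - (c₁ + c₂)) • ⊤ :=
        Submodule.smul_mono (Ideal.pow_le_pow_right (by omega)) le_rfl
      have hz' : ∑ i, c i • y i - z ∈ (J ^ m • ⊤ : Submodule R N) := by
        rw [← Submodule.Quotient.eq, hz]
        conv_rhs => rw [hsum c]
        rw [map_sum, map_sum, ← Submodule.mkQ_apply, map_sum]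
        exact Finset.sum_congr rfl fun i _ => by rw [map_smul, map_smul, map_smul, Submodule.mkQ_apply, hy]
      have he : h (π c) = ∑ i, c i • (y i - w i) := by
        conv_lhs => rw [hsum c]
        rw [map_sum, map_sum]
        exact Finset.sum_congr rfl fun i _ => by rw [map_smul, map_smul]; exact congrArg (c i • ·) (congrFun hh i)
      rw [he, show ∑ i, c i • (y i - w i) - z = (∑ i, c i • y i - z) - ∑ i, c i • w i by
        rw [sub_right_comm, ← Finset.sum_sub_distrib]
        simp [smul_sub]]
      exact sub_mem (hle hz') (Submodule.sum_mem _ fun i _ => Submodule.smul_mem _ _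
        (Submodule.smul_mono (Ideal.pow_le_pow_right (by omega)) le_rfl (hproj _ w hw i)))
    · refine ⟨0, fun x z _ => ?_⟩
      rw [show m - (c₁ + c₂) = 0 by omega, pow_zero, Ideal.one_eq_top, Submodule.top_smul]
      trivial

end Groth.Agent.W7Rees
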