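import Groth.Agent.W7Rees.Sections
import Groth.Agent.W7Rees.HomAR
import Groth.Agent.RefStalk.Coherent
import Groth.Agent.QC.Coherent

/-!
Lifting maps into `N/I^mN` to sections of the sheaf Hom, locally, with bounded loss.
-/

set_option autoImplicit false
set_option backward.isDefEq.respectTransparency false
set_option backward.isDefEq.respectTransparency.types false
set_option linter.style.haveILetI false
set_option maxHeartbeats 1000000

universe u

open CategoryTheory CategoryTheory.Limits AlgebraicGeometry TopologicalSpace Opposite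
open Groth.Agent.QC (res resO res_res res_smul app_res appₗ)
open Groth.Agent.WeakAssLib (mgerm mgerm_smul mgerm_res ext_germ)

noncomputable section

namespace Groth.Agent.W7Rees

variable {A : Type u} [CommRing A] {X : Scheme.{u}} [X.Over (Spec (CommRingCat.of A))]
  (I : Ideal A) {M N : X.Modules}

/-- The projection `M/I^mM ⟶ M/I^nM` for `n ≤ m`. -/
def tr (F : X.Modules) {n m : ℕ} (h : n ≤ m) : Formal.modPow I m F ⟶ Formal.modPow I n F :=
  cokernel.desc _ (Formal.modPowπ I n F) (Formal.smulFamily_π_of_le (Ideal.pow_le_pow_right h) F)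

@[simp]
lemma π_tr (F : X.Modules) {n m : ℕ} (h : n ≤ m) :
    Formal.modPowπ I m F ≫ tr I F h = Formal.modPowπ I n F := cokernel.π_desc _ _ _

/-- The kernel of `π_{I^m}` on affine sections, over the functions there. -/
lemma π_app_eq_zero_iff {F : X.Modules} (hF : Coh.IsQCoh F) {V : X.Opens} (hV : IsAffineOpen V) (m : ℕ)
    (s : Γ(F, V)) :
    (Formal.modPowπ I m F).app V s = 0 ↔
      s ∈ ((I.map (W7Cech.secRing A V)) ^ m • ⊤ : Submodule Γ(X, V) Γ(F, V)) := by
  refine (modQuot_eq_zero_iff F (I ^ m) hF hV s).trans ⟨fun h => ?_, fun h => ?_⟩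
  · refine Submodule.smul_induction_on
      (p := fun x : ((W7Cech.secA A V).obj F : Type u) =>
        (show Γ(F, V) from x) ∈ ((I.map (W7Cech.secRing A V)) ^ m • ⊤ : Submodule Γ(X, V) Γ(F, V)))
      h (fun a ha x _ => ?_) fun x y hx hy => add_mem hx hy
    change W7Cech.secRing A V a • (show Γ(F, V) from x) ∈ _
    refine Submodule.smul_mem_smul ?_ trivial
    rw [← Ideal.map_pow]
    exact Ideal.mem_map_of_mem _ ha
  · suffices hle : (I.map (W7Cech.secRing A V)) ^ m • (⊤ : Submodule Γ(X, V) Γ(F, V)) ≤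
        LinearMap.ker (appₗ (Formal.modPowπ I m F) V) by
      have h' := hle h
      exact (modQuot_eq_zero_iff F (I ^ m) hF hV s).1 h'
    refine Submodule.smul_le.2 fun r hr x _ => ?_
    rw [← Ideal.map_pow] at hr
    rw [LinearMap.mem_ker, map_smul]
    refine Submodule.span_induction
      (p := fun r _ => r • appₗ (Formal.modPowπ I m F) V x = 0) ?_ ?_ ?_ ?_ hr
    · rintro _ ⟨a, ha, rfl⟩
      rw [← map_smul]
      exact (modQuot_eq_zero_iff F (I ^ m) hF hV _).2
        (Submodule.smul_mem_smul (n := (show ((W7Cech.secA A V).obj F : Type u) from x)) ha trivial)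
    · exact zero_smul _ _
    · intro a b _ _ ha hb
      rw [add_smul, ha, hb, add_zero]
    · intro c r _ hr
      rw [smul_eq_mul, mul_smul, hr, smul_zero]

/-- `h` is congruent to `k` modulo `I^m`. -/
def Cg {m : ℕ} {W : X.Opens} (h : Γ(RefHull.homSh M N, W)) (k : M ⟶ Formal.modPow I m N) : Prop :=
  ∀ (y : X) (hy : y ∈ W), (RefHull.stalkMapₗ (Formal.modPowπ I m N) y).comp (h.1 ⟨y, hy⟩) = RefHull.stalkMapₗ k y

lemma stalkMapₗ_comp {F G H : X.Modules} (φ : F ⟶ G) (ψ : G ⟶ H) (y : X) :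
    RefHull.stalkMapₗ (φ ≫ ψ) y = (RefHull.stalkMapₗ ψ y).comp (RefHull.stalkMapₗ φ y) := by
  refine LinearMap.ext fun v => ?_
  obtain ⟨U, hy, s, rfl⟩ := TopCat.Presheaf.exists_germ_eq F.presheaf v
  rw [LinearMap.comp_apply, RefHull.stalkMapₗ_germ, RefHull.stalkMapₗ_germ, RefHull.stalkMapₗ_germ]
  rfl

variable {I}

lemma Cg.res {m : ℕ} {W W' : X.Opens} {h : Γ(RefHull.homSh M N, W)} {k : M ⟶ Formal.modPow I m N}
    (hc : Cg I h k) (hW : W' ≤ W) : Cg I (QC.res (RefHull.homSh M N) hW h) k := fun y hy => hc y (hW hy)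

lemma Cg.tr {n m : ℕ} {W : X.Opens} {h : Γ(RefHull.homSh M N, W)} {k : M ⟶ Formal.modPow I m N}
    (hc : Cg I h k) (hnm : n ≤ m) : Cg I h (k ≫ tr I N hnm) := fun y hy => by
  rw [stalkMapₗ_comp, ← π_tr I N hnm, stalkMapₗ_comp, LinearMap.comp_assoc, hc y hy]

lemma Cg.sub {m : ℕ} {W : X.Opens} {h h' : Γ(RefHull.homSh M N, W)} {k : M ⟶ Formal.modPow I m N}
    (hc : Cg I h k) (hc' : Cg I h' k) (y : X) (hy : y ∈ W) :
    (RefHull.stalkMapₗ (Formal.modPowπ I m N) y).comp ((h - h').1 ⟨y, hy⟩) = 0 := by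
  change (RefHull.stalkMapₗ (Formal.modPowπ I m N) y).comp (h.1 ⟨y, hy⟩ - h'.1 ⟨y, hy⟩) = 0
  rw [LinearMap.comp_sub, hc y hy, hc' y hy, sub_self]

variable (I)

/-- The linear map on affine sections of a section of the sheaf Hom. -/
lemma exists_appₗ {V : X.Opens} (h : Γ(RefHull.homSh M N, V)) :
    ∃ l : Γ(M, V) →ₗ[Γ(X, V)] Γ(N, V), ∀ (s : Γ(M, V)) (y : X) (hy : y ∈ V),
      mgerm N hy (l s) = h.1 ⟨y, hy⟩ (mgerm M hy s) := by
  choose n hn using fun s => RefStalk.exists_app h (le_refl V) s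
  exact ⟨{ toFun := n
           map_add' := fun s t => RefStalk.germ_ext fun y hy => by rw [hn, map_add, map_add, map_add, hn, hn]
           map_smul' := fun r s => RefStalk.germ_ext fun y hy => by
             rw [RingHom.id_apply, hn, mgerm_smul, mgerm_smul, map_smul, hn] }, hn⟩

/-- The local lifting and smallness statements on an affine open. -/
theorem exists_local [IsLocallyNoetherian X] (hM : Coh.IsCoh M) (hN : Coh.IsCoh N) {V : X.Opens}
    (hV : IsAffineOpen V) :
    ∃ c : ℕ, ∀ m : ℕ,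
      (∀ h : Γ(RefHull.homSh M N, V),
        (∀ (y : X) (hy : y ∈ V), (RefHull.stalkMapₗ (Formal.modPowπ I m N) y).comp (h.1 ⟨y, hy⟩) = 0) →
          (Formal.modPowπ I (m - c) (RefHull.homSh M N)).app V h = 0) ∧
      ∀ k : M ⟶ Formal.modPow I m N, ∃ h : Γ(RefHull.homSh M N, V),
        Cg I h (k ≫ tr I N (Nat.sub_le m c)) := by
  classical
  let R := Γ(X, V)
  haveI : IsNoetherianRing R := IsLocallyNoetherian.component_noetherian ⟨V, hV⟩
  haveI := QC.finite_sections hV (hM := hM.1) hM.2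
  haveI := QC.finite_sections hV (hM := hN.1) hN.2
  have hH := (RefStalk.isCoh_homSh hM hN).1
  let J : Ideal R := I.map (W7Cech.secRing A V)
  have hlin : ∀ l : Γ(M, V) →ₗ[R] Γ(N, V), ∃ h : Γ(RefHull.homSh M N, V),
      ∀ (y : X) (hy : y ∈ V) (s : Γ(M, V)), h.1 ⟨y, hy⟩ (mgerm M hy s) = mgerm N hy (l s) := fun l =>
    RefStalk.exists_section_of_linear hV hM.1 le_rfl l.toAddMonoidHom fun a s => by
      rw [Groth.Agent.QC.resO_self]; exact l.map_smul a s
  choose Λ hΛ using fun h : Γ(RefHull.homSh M N, V) => exists_appₗ h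
  let Λₗ : Γ(RefHull.homSh M N, V) →ₗ[R] (Γ(M, V) →ₗ[R] Γ(N, V)) :=
    { toFun := Λ
      map_add' := fun h h' => LinearMap.ext fun s => RefStalk.germ_ext fun y hy => by
        rw [LinearMap.add_apply, map_add, hΛ, hΛ, hΛ]; rfl
      map_smul' := fun r h => LinearMap.ext fun s => RefStalk.germ_ext fun y hy => by
        rw [RingHom.id_apply, LinearMap.smul_apply, mgerm_smul, hΛ, hΛ]; rfl }
  have hb : Submodule.span R (Set.range (id : Γ(M, V) → Γ(M, V))) = ⊤ := by
    rw [Set.range_id, Submodule.span_univ]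
  have hbij : Function.Bijective Λₗ := by
    refine ⟨fun h h' e => RefStalk.hom_ext_span hV hM.1 le_rfl id hb h h' fun y hy s => ?_, fun l => ?_⟩
    · refine ((hΛ h s y hy).symm.trans ?_).trans (hΛ h' s y hy)
      exact congrArg (fun l : Γ(M, V) →ₗ[R] Γ(N, V) => mgerm N hy (l s)) e
    · obtain ⟨h, hh⟩ := hlin l
      exact ⟨h, LinearMap.ext fun s => RefStalk.germ_ext fun y hy => by
        change mgerm N hy (Λ h s) = _
        rw [hΛ, hh]⟩
  obtain ⟨c, hc⟩ := exists_homAR J Γ(M, V) Γ(N, V)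
  refine ⟨c, fun m => ⟨fun h hh => ?_, fun k => ?_⟩⟩
  · refine (π_app_eq_zero_iff I hH hV _ h).2 ?_
    have h1 := (hc m).1 (Λₗ h) fun s => (π_app_eq_zero_iff I hN.1 hV m _).1
      (ext_germ _ _ fun y hy => by
        have e := congr($(hh y hy) (mgerm M hy s))
        rw [LinearMap.comp_apply, LinearMap.zero_apply, ← hΛ, RefHull.stalkMapₗ_germ] at e
        exact e)
    have hm : (J ^ (m - c) • ⊤ : Submodule R Γ(RefHull.homSh M N, V)).map Λₗ = J ^ (m - c) • ⊤ := by
      rw [Submodule.map_smul'', Submodule.map_top, LinearMap.range_eq_top.2 hbij.2]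
    rw [← hm] at h1
    obtain ⟨h', hh', e⟩ := h1
    rwa [← hbij.1 e]
  · have hQ : Coh.IsQCoh (Formal.modPow I m N) := isQCoh_modQuot N _ hN.1
    haveI : Epi (Formal.modPowπ I m N) := inferInstanceAs (Epi (cokernel.π _))
    let q : Γ(N, V) →ₗ[R] Γ(Formal.modPow I m N, V) := appₗ (Formal.modPowπ I m N) V
    have hq : Function.Surjective q := QC.app_surjective_of_epi hV hN.1 hQ (Formal.modPowπ I m N)
    have hker : LinearMap.ker q = (J ^ m • ⊤ : Submodule R Γ(N, V)) := SetLike.ext fun s =>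
      LinearMap.mem_ker.trans (π_app_eq_zero_iff I hN.1 hV m s)
    let g : Γ(M, V) →ₗ[R] Γ(N, V) ⧸ (J ^ m • ⊤ : Submodule R Γ(N, V)) :=
      (Submodule.quotEquivOfEq _ _ hker).toLinearMap ∘ₗ (q.quotKerEquivOfSurjective hq).symm.toLinearMap ∘ₗ
        appₗ k V
    obtain ⟨l, hl⟩ := (hc m).2 g
    obtain ⟨h, hh⟩ := hlin l
    refine ⟨h, fun y hy => LinearMap.ext_on_range (LocFree.span_germ hV hM.1 hy id hb) fun s => ?_⟩
    obtain ⟨n, hn⟩ := hq (k.app V s)
    have hmk : Submodule.Quotient.mk n = g s := by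
      change _ = Submodule.quotEquivOfEq _ _ hker ((q.quotKerEquivOfSurjective hq).symm (k.app V s))
      rw [show (q.quotKerEquivOfSurjective hq).symm (k.app V s) = Submodule.Quotient.mk n from
        (LinearEquiv.symm_apply_eq _).2 hn.symm]
      rfl
    have h0 := (π_app_eq_zero_iff I hN.1 hV (m - c) _).2 (hl s n hmk)
    rw [map_sub, sub_eq_zero] at h0
    have h1 : (Formal.modPowπ I (m - c) N).app V n = (tr I N (Nat.sub_le m c)).app V (k.app V s) := by
      rw [← hn]
      exact (congr(($(π_tr I N (Nat.sub_le m c))).app V n)).symm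
    rw [LinearMap.comp_apply]
    change RefHull.stalkMapₗ _ y (h.1 ⟨y, hy⟩ (mgerm M hy s)) = RefHull.stalkMapₗ _ y (mgerm M hy s)
    rw [hh]
    refine (RefHull.stalkMapₗ_germ _ y hy _).trans (Eq.trans ?_ (RefHull.stalkMapₗ_germ _ y hy _).symm)
    exact congrArg (mgerm (Formal.modPow I (m - c) N) hy) (h0.trans h1)

/-- A section vanishing modulo `I^n` is congruent to zero there. -/
lemma cg_zero_of_π_app [IsLocallyNoetherian X] (hM : Coh.IsCoh M) (hN : Coh.IsCoh N) {V : X.Opens}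
    (hV : IsAffineOpen V) (n : ℕ) (h : Γ(RefHull.homSh M N, V))
    (h0 : (Formal.modPowπ I n (RefHull.homSh M N)).app V h = 0) (y : X) (hy : y ∈ V) :
    (RefHull.stalkMapₗ (Formal.modPowπ I n N) y).comp (h.1 ⟨y, hy⟩) = 0 := by
  have hb : Submodule.span Γ(X, V) (Set.range (id : Γ(M, V) → Γ(M, V))) = ⊤ := by
    rw [Set.range_id, Submodule.span_univ]
  refine LinearMap.ext_on_range (LocFree.span_germ hV hM.1 hy id hb) fun s => ?_
  rw [LinearMap.comp_apply, LinearMap.zero_apply]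
  have h1 := (π_app_eq_zero_iff I (RefStalk.isCoh_homSh hM hN).1 hV n h).1 h0
  refine Submodule.smul_induction_on
    (p := fun h : Γ(RefHull.homSh M N, V) =>
      RefHull.stalkMapₗ (Formal.modPowπ I n N) y (h.1 ⟨y, hy⟩ (mgerm M hy s)) = 0) h1 (fun r hr h _ => ?_)
    fun a b ha hb => ?_
  · obtain ⟨l, hl⟩ := exists_appₗ h
    change RefHull.stalkMapₗ _ y (X.presheaf.germ V y hy r • h.1 ⟨y, hy⟩ (mgerm M hy s)) = 0
    rw [← hl, ← mgerm_smul]
    refine (RefHull.stalkMapₗ_germ _ y hy _).trans ?_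
    rw [(π_app_eq_zero_iff I hN.1 hV n _).2 (Submodule.smul_mem_smul hr trivial), map_zero]
  · change RefHull.stalkMapₗ _ y (a.1 ⟨y, hy⟩ (mgerm M hy s) + b.1 ⟨y, hy⟩ (mgerm M hy s)) = 0
    rw [map_add, ha, hb, add_zero]

end Groth.Agent.W7Rees
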