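import Groth.Agent.W7Cech.Complex
import Groth.Agent.W7Cech.ModPow
import Groth.Agent.FlatCx.Homology
import Groth.Agent.QC.IdealMod
import Groth.Prelude.Def_Formal2

/-!
Čech cochains of `F/JF` and `JF`, and cohomology classes of Čech cocycles.
-/

set_option autoImplicit false
set_option backward.isDefEq.respectTransparency false
set_option backward.isDefEq.respectTransparency.types false
set_option linter.style.haveILetI false
set_option maxHeartbeats 1000000

universe u

open CategoryTheory CategoryTheory.Limits AlgebraicGeometry TopologicalSpace Opposite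
open Groth.Agent.QC (res resO res_res res_smul app_res)
open Groth.Agent.SiteCoh
open scoped TensorProduct

noncomputable section

namespace Groth.Agent.W7Rees

variable (A : Type u) [CommRing A] {X : Scheme.{u}} [X.Over (Spec (CommRingCat.of A))]
  {ι : Type u} [Finite ι] (U : ι → X.Opens)

/-- The differential on Čech cochains. -/
abbrev cdl (M : X.Modules) (i j : ℕ) :
    (((W7Cech.CC A U).obj M).X i : Type u) →ₗ[A] (((W7Cech.CC A U).obj M).X j : Type u) :=
  (((W7Cech.CC A U).obj M).d i j).hom

/-- The map on Čech cochains. -/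
abbrev cmp {M N : X.Modules} (φ : M ⟶ N) (n : ℕ) :
    (((W7Cech.CC A U).obj M).X n : Type u) →ₗ[A] (((W7Cech.CC A U).obj N).X n : Type u) :=
  (((W7Cech.CC A U).map φ).f n).hom

lemma cmp_cdl {M N : X.Modules} (φ : M ⟶ N) (i j : ℕ) (x : (((W7Cech.CC A U).obj M).X i : Type u)) :
    cmp A U φ j (cdl A U M i j x) = cdl A U N i j (cmp A U φ i x) :=
  congr($(((W7Cech.CC A U).map φ).comm i j).hom x).symm

lemma cmp_comp {M N P : X.Modules} (φ : M ⟶ N) (ψ : N ⟶ P) (n : ℕ)
    (x : (((W7Cech.CC A U).obj M).X n : Type u)) :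
    cmp A U (φ ≫ ψ) n x = cmp A U ψ n (cmp A U φ n x) := rfl

section Quot

variable {A} (F : X.Modules) (J : Ideal A) (hF : Coh.IsQCoh F)

include hF in
lemma isQCoh_modQuot : Coh.IsQCoh (cokernel (Formal.smulFamily J F)) := by
  obtain ⟨i, θ, -⟩ := W7Cech.exists_iso_cokernel_smulFamily A F J
  exact QC.isQCoh_of_iso θ.symm (W7Cech.isQCoh_tensorAFunctor A F hF _)

include hF in
lemma isQCoh_modKer : Coh.IsQCoh (kernel (cokernel.π (Formal.smulFamily J F))) :=
  QC.isQCoh_kernel hF (isQCoh_modQuot F J hF) _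

include hF in
/-- The kernel of the projection to `F/JF` on sections over an affine. -/
lemma modQuot_eq_zero_iff {V : X.Opens} (hV : IsAffineOpen V) (s : Γ(F, V)) :
    (cokernel.π (Formal.smulFamily J F)).app V s = 0 ↔
      (show ((W7Cech.secA A V).obj F : Type u) from s) ∈
        J • (⊤ : Submodule A ((W7Cech.secA A V).obj F : Type u)) := by
  obtain ⟨i, θ, h⟩ := W7Cech.exists_iso_cokernel_smulFamily A F J
  let G := CohIII.tensorAFunctor A F
  let P : ModuleCat.{u} A := (W7Cech.secA A V).obj F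
  let iA := ((W7Cech.secA A V).mapIso i).toLinearEquiv
  obtain ⟨t, ht⟩ := (W7Cech.pairing_bijective_ring A V (F := F)).2 (iA.symm s)
  obtain ⟨d, rfl⟩ := (TensorProduct.rid A (P : Type u)).symm.surjective t
  let eA : (P : Type u) ≃ₗ[A] (P : Type u) :=
    ((TensorProduct.rid A (P : Type u)).symm.trans
      (LinearEquiv.ofBijective _ (W7Cech.pairing_bijective_ring A V (F := F)))).trans iA
  have hs : eA d = s := by
    change iA ((W7Cech.pairing A V (ModuleCat.of A A)) ((TensorProduct.rid A (P : Type u)).symm d)) = _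
    rw [ht, LinearEquiv.apply_symm_apply]
  have h1 : (cokernel.π (Formal.smulFamily J F)).app V s = 0 ↔
      W7Cech.pairing A V (ModuleCat.of A (A ⧸ J))
        ((J.mkQ).lTensor (P : Type u) ((TensorProduct.rid A (P : Type u)).symm d)) = 0 := by
    have hn : W7Cech.pairing A V (ModuleCat.of A (A ⧸ J))
        ((J.mkQ).lTensor (P : Type u) ((TensorProduct.rid A (P : Type u)).symm d)) =
        (G.map (ModuleCat.ofHom J.mkQ)).app V
          (W7Cech.pairing A V (ModuleCat.of A A) ((TensorProduct.rid A (P : Type u)).symm d)) :=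
      LinearMap.congr_fun (W7Cech.pairing_natural A V (F := F) (ModuleCat.ofHom J.mkQ))
        ((TensorProduct.rid A (P : Type u)).symm d)
    rw [hn, ht, ← h]
    change _ ↔ θ.hom.app V ((cokernel.π (Formal.smulFamily J F)).app V (i.hom.app V (i.inv.app V s))) = 0
    rw [show i.hom.app V (i.inv.app V s) = s from congr(($(i.inv_hom_id)).app V s)]
    exact (map_eq_zero_iff _ (ConcreteCategory.bijective_of_isIso (θ.hom.app V)).1).symm
  rw [h1, map_eq_zero_iff _ (W7Cech.pairing_bijective A (F := F) V hV hF _).1, TensorProduct.rid_symm_apply,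
    LinearMap.lTensor_tmul, ← (TensorProduct.tensorQuotEquivQuotSMul (P : Type u) J).map_eq_zero_iff,
    show J.mkQ (1 : A) = Ideal.Quotient.mk J 1 from rfl, TensorProduct.tensorQuotEquivQuotSMul_tmul_mk,
    one_smul, Submodule.Quotient.mk_eq_zero]
  have hmap : (J • ⊤ : Submodule A (P : Type u)).map eA.toLinearMap = J • ⊤ := by
    rw [Submodule.map_smul'', Submodule.map_top, LinearEquiv.range]
  conv_rhs => rw [← hs]
  change d ∈ (J • ⊤ : Submodule A (P : Type u)) ↔ eA d ∈ (J • ⊤ : Submodule A (P : Type u))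
  conv_rhs => rw [← hmap, Submodule.mem_map_equiv, LinearEquiv.symm_apply_apply]

include hF in
/-- Cochains of the projection are surjective. -/
lemma cmp_quot_surjective (hU : ∀ (n : ℕ) (a : Fin (n + 1) → ι), IsAffineOpen (tupleProd U a)) :
    ∀ n, Function.Surjective (cmp A U (cokernel.π (Formal.smulFamily J F)) n) := by
  intro n z
  choose x hx using fun a => QC.app_surjective_of_epi (hU n a) hF (isQCoh_modQuot F J hF)
    (cokernel.π (Formal.smulFamily J F)) (z a)
  exact ⟨fun a => x a, funext hx⟩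

include hF in
/-- Cochains killed by the projection are those in `J`. -/
lemma cmp_quot_eq_zero_iff (hU : ∀ (n : ℕ) (a : Fin (n + 1) → ι), IsAffineOpen (tupleProd U a)) (n : ℕ)
    (x : (((W7Cech.CC A U).obj F).X n : Type u)) :
    cmp A U (cokernel.π (Formal.smulFamily J F)) n x = 0 ↔
      x ∈ J • (⊤ : Submodule A (((W7Cech.CC A U).obj F).X n : Type u)) := by
  classical
  haveI := Fintype.ofFinite (Fin (n + 1) → ι)
  constructor
  · intro h
    have hx : x = ∑ a, Pi.single a (x a) := (Finset.univ_sum_single x).symm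
    rw [hx]
    refine Submodule.sum_mem _ fun a _ => ?_
    have hm0 : (show ((W7Cech.secA A (tupleProd U a)).obj F : Type u) from x a) ∈
        J • (⊤ : Submodule A ((W7Cech.secA A (tupleProd U a)).obj F : Type u)) :=
      (modQuot_eq_zero_iff F J hF (hU n a) _).1 (congrFun h a)
    have hm := Submodule.mem_map_of_mem
      (f := LinearMap.single A (fun a : Fin (n + 1) → ι => ((W7Cech.secA A (tupleProd U a)).obj F : Type u)) a) hm0
    rw [Submodule.map_smul''] at hm
    exact Submodule.smul_mono le_rfl le_top hm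
  · intro h
    refine funext fun a => (modQuot_eq_zero_iff F J hF (hU n a) _).2 ?_
    have hm := Submodule.mem_map_of_mem (f := LinearMap.proj a) h
    rw [Submodule.map_smul''] at hm
    exact Submodule.smul_mono le_rfl le_top hm

lemma cmp_ker_injective (n : ℕ) :
    Function.Injective (cmp A U (kernel.ι (cokernel.π (Formal.smulFamily J F))) n) := fun x y h =>
  funext fun a => QC.app_injective_of_mono (kernel.ι (cokernel.π (Formal.smulFamily J F)))
    (tupleProd U a) (congrFun h a)

include hF in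
/-- The cochains of `JF`. -/
lemma range_cmp_ker (hU : ∀ (n : ℕ) (a : Fin (n + 1) → ι), IsAffineOpen (tupleProd U a)) (n : ℕ) :
    LinearMap.range (cmp A U (kernel.ι (cokernel.π (Formal.smulFamily J F))) n) =
      J • (⊤ : Submodule A (((W7Cech.CC A U).obj F).X n : Type u)) := by
  refine SetLike.ext fun x => ?_
  rw [← cmp_quot_eq_zero_iff U F J hF hU n x, LinearMap.mem_range]
  constructor
  · rintro ⟨z, rfl⟩
    rw [← cmp_comp, kernel.condition]
    exact funext fun a => rfl
  · intro h
    choose z hz using fun a => (QC.mem_range_kernel_app (cokernel.π (Formal.smulFamily J F))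
      (tupleProd U a) (x a)).2 (congrFun h a)
    exact ⟨fun a => z a, funext hz⟩

end Quot

section Classes

variable (hU : ∀ (n : ℕ) (a : Fin (n + 1) → ι), IsAffineOpen (tupleProd U a)) (hcov : iSup U = ⊤)

include hU hcov in
/-- Cohomology classes of Čech cocycles. -/
theorem exists_cl (p i k : ℕ) (hi : (ComplexShape.up ℕ).prev p = i) (hk : (ComplexShape.up ℕ).next p = k) :
    ∃ cl : ∀ M : X.Modules, Coh.IsQCoh M → (LinearMap.ker (cdl A U M p k) →ₗ[A] Coh.HH X M p),
      (∀ M hM, Function.Surjective (cl M hM)) ∧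
      (∀ M hM z, cl M hM z = 0 ↔ (z : (((W7Cech.CC A U).obj M).X p : Type u)) ∈ LinearMap.range (cdl A U M i p)) ∧
      ∀ (M N : X.Modules) (hM : Coh.IsQCoh M) (hN : Coh.IsQCoh N) (φ : M ⟶ N)
        (z : LinearMap.ker (cdl A U M p k)) (h : cmp A U φ p z ∈ LinearMap.ker (cdl A U N p k)),
        Sheaf.H.map ((SheafOfModules.toSheaf _).map φ) p (cl M hM z) = cl N hN ⟨_, h⟩ := by
  subst hi hk
  obtain ⟨e, he⟩ := W7Cech.exists_hhEquiv A U hU hcov p
  let cl : ∀ M : X.Modules, Coh.IsQCoh M →
      (LinearMap.ker (cdl A U M p ((ComplexShape.up ℕ).next p)) →ₗ[A] Coh.HH X M p) := fun M hM =>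
    (e M hM).toLinearMap ∘ₗ (((W7Cech.CC A U).obj M).homologyπ p).hom ∘ₗ
      (((W7Cech.CC A U).obj M).sc p).moduleCatCyclesIso.inv.hom
  have hcyc : ∀ (M : X.Modules) (z : LinearMap.ker (cdl A U M p ((ComplexShape.up ℕ).next p))),
      ((W7Cech.CC A U).obj M).iCycles p ((((W7Cech.CC A U).obj M).sc p).moduleCatCyclesIso.inv.hom z) = z.1 :=
    fun M z => ShortComplex.moduleCatCyclesIso_inv_iCycles_apply (((W7Cech.CC A U).obj M).sc p) z
  refine ⟨cl, fun M hM y => ?_, fun M hM z => ?_, fun M N hM hN φ z h => ?_⟩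
  · obtain ⟨x, hx⟩ := FlatCx.homologyπ_surjective ((W7Cech.CC A U).obj M) ((e M hM).symm y)
    refine ⟨⟨((W7Cech.CC A U).obj M).iCycles p x, FlatCx.d_iCycles _ x⟩, ?_⟩
    rw [show x = (((W7Cech.CC A U).obj M).sc p).moduleCatCyclesIso.inv.hom
      ⟨((W7Cech.CC A U).obj M).iCycles p x, FlatCx.d_iCycles _ x⟩ from
        FlatCx.iCycles_injective _ (hcyc M ⟨((W7Cech.CC A U).obj M).iCycles p x, FlatCx.d_iCycles _ x⟩).symm] at hx
    change e M hM (((W7Cech.CC A U).obj M).homologyπ p _) = y
    exact (congrArg (e M hM) hx).trans ((e M hM).apply_symm_apply y)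
  · change e M hM (((W7Cech.CC A U).obj M).homologyπ p _) = 0 ↔ _
    rw [LinearEquiv.map_eq_zero_iff, FlatCx.homologyπ_eq_zero_iff _ rfl]
    exact iff_of_eq (congrArg (· ∈ _) (hcyc M z))
  · change _ = e N hN (((W7Cech.CC A U).obj N).homologyπ p _)
    refine (he M N hM hN φ _).symm.trans (congrArg (e N hN) ?_)
    refine (FlatCx.homologyMap_homologyπ ((W7Cech.CC A U).map φ) _).trans ?_
    congr 1
    refine FlatCx.iCycles_injective _ ?_
    refine (FlatCx.iCycles_cyclesMap ((W7Cech.CC A U).map φ) _).trans ?_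
    exact (congrArg _ (hcyc M z)).trans (hcyc N ⟨_, h⟩).symm

end Classes

end Groth.Agent.W7Rees
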