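import Groth.Agent.W7Rees.FF
import Groth.Agent.AdicLim.Noetherian

/-!
The theorem on formal functions.
-/

set_option autoImplicit false
set_option backward.isDefEq.respectTransparency false
set_option backward.isDefEq.respectTransparency.types false
set_option linter.style.haveILetI false
set_option maxHeartbeats 1000000

universe u

open CategoryTheory CategoryTheory.Limits AlgebraicGeometry TopologicalSpace Opposite

noncomputable section

namespace Groth.Agent.W7Rees

variable {A : Type u} [CommRing A] {X : Scheme.{u}} [X.Over (Spec (CommRingCat.of A))]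
  {F : X.Modules} (I : Ideal A)

lemma π_completion_map (n k : ℕ) (h : n ≤ k) :
    Formal.modPowπ I (k + 1) F ≫ (Formal.completion I F).map (homOfLE h).op = Formal.modPowπ I (n + 1) F := by
  induction k, h using Nat.le_induction with
  | base =>
    rw [show (homOfLE (le_refl n)).op = 𝟙 (op n) from rfl]
    exact (congrArg (_ ≫ ·) ((Formal.completion I F).map_id (op n))).trans (Category.comp_id _)
  | succ k hk ih =>
    rw [show (homOfLE (hk.trans (Nat.le_succ k))).op = (homOfLE (Nat.le_succ k)).op ≫ (homOfLE hk).op from rfl,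
      Functor.map_comp, ← Category.assoc]
    rw [show (Formal.completion I F).map (homOfLE (Nat.le_succ k)).op = Formal.modPowTrans I (k + 1) F from
      Functor.ofOpSequence_map_homOfLE_succ _ k]
    exact (congrArg (· ≫ _) (Formal.modPowπ_trans I (k + 1) F)).trans ih

lemma mem_HHlim_map {p : ℕ} (y : Formal.HHlim I F p) (n k : ℕ) (h : n ≤ k) :
    hm ((Formal.completion I F).map (homOfLE h).op) p ((y : ∀ n, Formal.HHmodPow I F p n) k) =
      (y : ∀ n, Formal.HHmodPow I F p n) n := by
  induction k, h using Nat.le_induction with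
  | base =>
    rw [show (homOfLE (le_refl n)).op = 𝟙 (op n) from rfl, CategoryTheory.Functor.map_id]
    exact (congrArg (fun φ => Sheaf.H.map φ p _) (CategoryTheory.Functor.map_id _ _)).trans (Sheaf.H.map_id_apply _)
  | succ k hk ih =>
    rw [show (homOfLE (hk.trans (Nat.le_succ k))).op = (homOfLE (Nat.le_succ k)).op ≫ (homOfLE hk).op from rfl,
      Functor.map_comp]
    refine (hm_comp _ _ p _).trans ((congrArg (hm _ p) ?_).trans ih)
    rw [show (Formal.completion I F).map (homOfLE (Nat.le_succ k)).op = Formal.modPowTrans I (k + 1) F from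
      Functor.ofOpSequence_map_homOfLE_succ _ k]
    exact y.2 k

variable [IsNoetherianRing A] [IsProper (X ↘ Spec (CommRingCat.of A))]

theorem smul_ker (hq : Coh.IsQCoh F) (p k r : ℕ) (a : A) (ha : a ∈ I ^ r) (x : Coh.HH X F p)
    (hx : hm (qπ F (I ^ k)) p x = 0) : hm (qπ F (I ^ (r + k))) p (a • x) = 0 := by
  obtain ⟨ι, hι, U, hU, hcov⟩ := exists_goodCover A X
  exact smul_ker_aux I U hU hcov hq p k r a ha x hx

theorem exists_ker_subset (hF : Coh.IsCoh F) (p : ℕ) :
    ∃ c : ℕ, ∀ k, c ≤ k → ∀ r : ℕ, ∀ x : Coh.HH X F p, hm (qπ F (I ^ (k + r))) p x = 0 →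
      x ∈ (I ^ r • Submodule.span A {y : Coh.HH X F p | hm (qπ F (I ^ k)) p y = 0} : Submodule A (Coh.HH X F p)) := by
  obtain ⟨ι, hι, U, hU, hcov⟩ := exists_goodCover A X
  exact exists_ker_subset_aux I U hU hcov hF p

theorem exists_range_subset (hF : Coh.IsCoh F) (p : ℕ) :
    ∃ c : ℕ, ∀ n k, n + c ≤ k → ∀ φ : cokernel (Formal.smulFamily (I ^ k) F) ⟶ cokernel (Formal.smulFamily (I ^ n) F),
      qπ F (I ^ k) ≫ φ = qπ F (I ^ n) → Set.range (hm φ p) ⊆ Set.range (hm (qπ F (I ^ n)) p) := by
  obtain ⟨ι, hι, U, hU, hcov⟩ := exists_goodCover A X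
  exact exists_range_subset_aux I U hU hcov hF p

theorem smul_top_le_ker (hq : Coh.IsQCoh F) (p k : ℕ) (x : Coh.HH X F p)
    (hx : x ∈ (I ^ k • ⊤ : Submodule A (Coh.HH X F p))) : hm (qπ F (I ^ k)) p x = 0 := by
  refine Submodule.smul_induction_on (p := fun x => hm (qπ F (I ^ k)) p x = 0) hx (fun a ha y _ => ?_)
    fun a b ha hb => ?_
  ·
    have h0 : hm (qπ F (I ^ 0)) p y = 0 := by
      obtain ⟨ι, hι, U, hU, hcov⟩ := exists_goodCover A X
      obtain ⟨cl, h1, h2, h3⟩ := exists_cl A U hU hcov p _ _ rfl rfl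
      obtain ⟨z, rfl⟩ := h1 F hq y
      exact (exists_rep_of_ker F U hU hcov hq _ p _ _ rfl rfl h1 h2 h3 _).2
        ⟨z, by rw [pow_zero, one_smul]; trivial, rfl⟩
    simpa using smul_ker I hq p 0 k a ha y h0
  · rw [map_add, ha, hb, add_zero]

theorem exists_ker_le_pow (hF : Coh.IsCoh F) (p : ℕ) :
    ∃ c : ℕ, ∀ k (x : Coh.HH X F p), hm (qπ F (I ^ k)) p x = 0 → x ∈ (I ^ (k - c) • ⊤ : Submodule A (Coh.HH X F p)) := by
  obtain ⟨c, hc⟩ := exists_ker_subset I hF p
  refine ⟨c, fun k x hx => ?_⟩
  by_cases h : c ≤ k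
  · exact Submodule.smul_mono le_rfl le_top (hc c le_rfl (k - c) x (by rwa [Nat.add_sub_cancel' h]))
  · rw [show k - c = 0 by omega, pow_zero, one_smul]
    trivial

/-- Completed cohomology is the limit of the cohomology of the quotients. -/
theorem formal_functions (hF : Coh.IsCoh F) (p : ℕ) :
    ∃ Φ : AdicCompletion I (Coh.HH X F p) →+ Formal.HHlim I F p, Function.Bijective Φ ∧
      ∀ x, Φ (AdicCompletion.of I _ x) = Formal.toHHlim I F p x := by
  classical
  let T := Coh.HH X F p
  have hdef : ∀ (n : ℕ) (x y : T), (Submodule.Quotient.mk x : T ⧸ (I ^ (n + 1) • ⊤ : Submodule A T)) = Submodule.Quotient.mk y →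
      Formal.toHHmodPow I F p n x = Formal.toHHmodPow I F p n y := fun n x y h => by
    rw [← sub_eq_zero, ← map_sub]
    exact smul_top_le_ker I hF.1 p (n + 1) _ ((Submodule.Quotient.eq _).1 h)
  choose lift hlift using fun (n : ℕ) (q : T ⧸ (I ^ n • ⊤ : Submodule A T)) => Submodule.Quotient.mk_surjective _ q
  have htrans : ∀ n (x : T), Formal.HHmodPowTrans I F p n (Formal.toHHmodPow I F p (n + 1) x) = Formal.toHHmodPow I F p n x :=
    fun n x => (Formal.toHHlim I F p x).2 n
  let Φ : AdicCompletion I T →+ Formal.HHlim I F p :=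
    AddMonoidHom.mk' (fun a => ⟨fun n => Formal.toHHmodPow I F p n (lift (n + 1) (a.val (n + 1))), fun n => by
      rw [htrans]
      refine hdef n _ _ ?_
      rw [hlift, ← a.2 (Nat.le_succ (n + 1))]
      conv_rhs => rw [← hlift (n + 1 + 1) (a.val (n + 1 + 1))]
      exact (Submodule.factor_mk _ _).symm⟩) fun a b => Subtype.ext (funext fun n => by
      change _ = Formal.toHHmodPow I F p n _ + Formal.toHHmodPow I F p n _
      rw [← map_add]
      refine hdef n _ _ ?_
      rw [hlift, Submodule.Quotient.mk_add, hlift, hlift]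
      rfl)
  refine ⟨Φ, ⟨(injective_iff_map_eq_zero _).2 fun a ha => ?_, fun y => ?_⟩, fun x => Subtype.ext (funext fun n => ?_)⟩
  · obtain ⟨c, hc⟩ := exists_ker_le_pow I hF p
    refine AdicCompletion.ext fun n => ?_
    have h0 : Formal.toHHmodPow I F p (n + c) (lift (n + c + 1) (a.val (n + c + 1))) = 0 :=
      congrFun (congrArg Subtype.val ha) (n + c)
    have h1 := hc (n + c + 1) _ h0
    rw [show n + c + 1 - c = n + 1 by omega] at h1
    rw [← a.2 (show n ≤ n + c + 1 by omega), ← hlift (n + c + 1) (a.val (n + c + 1))]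
    exact (Submodule.Quotient.mk_eq_zero _).2 (Submodule.smul_mono (Ideal.pow_le_pow_right (Nat.le_succ n)) le_rfl h1)
  · obtain ⟨c, hc⟩ := exists_range_subset I hF p
    obtain ⟨d, hd⟩ := exists_ker_le_pow I hF p
    have hy : ∀ n, ∃ x : T, Formal.toHHmodPow I F p n x = (y : ∀ n, Formal.HHmodPow I F p n) n := fun n =>
      hc (n + 1) (n + c + 1) (by omega) _ (π_completion_map I n (n + c) (by omega)) ⟨_, mem_HHlim_map I y n (n + c) (by omega)⟩
    choose x hx using hy
    have hcauchy : ∀ n, x (n + d) ≡ x (n + 1 + d) [SMOD (I ^ n • ⊤ : Submodule A T)] := fun n => by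
      rw [SModEq.sub_mem]
      have h0 : Formal.toHHmodPow I F p (n + d) (x (n + d) - x (n + 1 + d)) = 0 := by
        rw [map_sub, hx, sub_eq_zero, show n + 1 + d = n + d + 1 by omega, ← htrans, hx]
        exact (y.2 (n + d)).symm
      have := hd (n + d + 1) _ h0
      rw [show n + d + 1 - d = n + 1 by omega] at this
      exact Submodule.smul_mono (Ideal.pow_le_pow_right (Nat.le_succ n)) le_rfl this
    refine ⟨AdicCompletion.mk I T (AdicCompletion.AdicCauchySequence.mk I T (fun n => x (n + d)) hcauchy),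
      Subtype.ext (funext fun n => ?_)⟩
    change Formal.toHHmodPow I F p n (lift (n + 1) _) = _
    refine (hdef n _ (x (n + 1 + d)) (hlift _ _)).trans ?_
    rw [← mem_HHlim_map I y n (n + 1 + d) (by omega), ← hx]
    exact (congrArg (fun φ => hm φ p (x (n + 1 + d))) (π_completion_map I n (n + 1 + d) (by omega))).symm.trans
      (hm_comp _ _ p _)
  · exact hdef n _ _ (hlift _ _)

theorem bijective_toHHlim [IsAdicComplete I A] (hF : Coh.IsCoh F) (p : ℕ) :
    Function.Bijective (Formal.toHHlim I F p) := by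
  obtain ⟨Φ, hΦ, hΦ'⟩ := formal_functions I hF p
  haveI := CohFinite.finite_proper A X F hF p
  haveI : IsAdicComplete I (Coh.HH X F p) := AdicLim.isAdicComplete_of_finite I _
  rw [show ⇑(Formal.toHHlim I F p) = Φ ∘ AdicCompletion.of I _ from funext fun x => (hΦ' x).symm]
  exact hΦ.comp (AdicCompletion.of_bijective I _)

end Groth.Agent.W7Rees
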