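import Groth.Agent.W7Rees.Main
import Groth.Agent.ClSubLib.AnnIdeal
import Groth.Agent.CohFinite.PushLinear

/-!
Formal functions for a coherent module with proper support.
-/

set_option autoImplicit false
set_option backward.isDefEq.respectTransparency false
set_option backward.isDefEq.respectTransparency.types false
set_option linter.style.haveILetI false
set_option maxHeartbeats 1000000

universe u

open CategoryTheory CategoryTheory.Limits AlgebraicGeometry TopologicalSpace Opposite
open Groth.Agent.SiteCoh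

noncomputable section

namespace Groth.Agent.W7Rees

/-- Cohomology of an acyclic direct image, naturally in the sheaf. -/
theorem h_push_natural_hom {X Y : TopCat.{u}} (f : X ⟶ Y) (n : ℕ) :
    ∃ a : ∀ F : CohTop.Ab X, DirectAcyclic (Opens.grothendieckTopology Y) (Opens.map f) F →
      (CohTop.H F n ≃+ CohTop.H ((CohTop.push f).obj F) n),
      ∀ (F G : CohTop.Ab X) (hF : DirectAcyclic (Opens.grothendieckTopology Y) (Opens.map f) F)
        (hG : DirectAcyclic (Opens.grothendieckTopology Y) (Opens.map f) G) (φ : F ⟶ G) (x : CohTop.H F n),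
        a G hG (Sheaf.H.map φ n x) = Sheaf.H.map ((CohTop.push f).map φ) n (a F hF x) := by
  obtain ⟨a, ha⟩ := CohFinite.hu_compare_class_natural (CohTop.push f) (U := (Opens.map f).obj ⊤) (U' := (⊤ : Opens Y))
    (fun G => AddEquiv.refl _) (fun _ _ => rfl)
    (DirectAcyclic (Opens.grothendieckTopology Y) (Opens.map f))
    (fun G hG => directAcyclic_shortExact (Opens.map f) hG)
    (fun I hI q => @push_injective_acyclic _ _ f I hI ⊤ q)
    (fun G hG => directAcyclic_quotient (Opens.map f) hG) n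
  let hT : IsTerminal ((Opens.map f).obj (⊤ : Opens Y)) := isTerminalTop
  refine ⟨fun F hF => ((huTerminalEquiv (Opens.grothendieckTopology X) hT F n).trans (a F hF)).trans
    (huTerminalEquiv (Opens.grothendieckTopology Y) isTerminalTop ((CohTop.push f).obj F) n).symm,
    fun F G hF hG φ x => ?_⟩
  apply (huTerminalEquiv (Opens.grothendieckTopology Y) isTerminalTop ((CohTop.push f).obj G) n).injective
  refine Eq.trans ?_ (ProjCech.huTerminalEquiv_natural (Opens.grothendieckTopology Y) isTerminalTop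
    ((CohTop.push f).map φ) n _).symm
  simp only [AddEquiv.trans_apply, AddEquiv.apply_symm_apply]
  refine (congrArg (a G hG) (ProjCech.huTerminalEquiv_natural (Opens.grothendieckTopology X) hT φ n x)).trans ?_
  exact ha F G hF hG φ _

variable {A : Type u} [CommRing A] {X Z : Scheme.{u}} [X.Over (Spec (CommRingCat.of A))]
  [Z.Over (Spec (CommRingCat.of A))] (i : Z ⟶ X)
  (hi : i ≫ (X ↘ Spec (CommRingCat.of A)) = Z ↘ Spec (CommRingCat.of A))

include hi in
lemma smulMod_push (H : Z.Modules) (a : A) :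
    (Scheme.Modules.pushforward i).map (Formal.smulMod A H a) =
      Formal.smulMod A ((Scheme.Modules.pushforward i).obj H) a := by
  refine Scheme.Modules.hom_ext _ _ fun W => ?_
  ext z
  have hg : Coh.toGlobal (Z ↘ Spec (CommRingCat.of A)) a =
      i.appTop (Coh.toGlobal (X ↘ Spec (CommRingCat.of A)) a) := by
    rw [← hi]
    simp only [Coh.toGlobal, Scheme.Hom.comp_appTop]
    rfl
  change (Z.presheaf.map (homOfLE (le_top : i ⁻¹ᵁ W ≤ ⊤)).op (Coh.toGlobal (Z ↘ Spec (CommRingCat.of A)) a)) •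
      (show Γ(H, i ⁻¹ᵁ W) from z) =
    (i.app W (X.presheaf.map (homOfLE (le_top : W ≤ ⊤)).op (Coh.toGlobal (X ↘ Spec (CommRingCat.of A)) a))) •
      (show Γ(H, i ⁻¹ᵁ W) from z)
  rw [hg]
  refine congrArg (fun c => c • (show Γ(H, i ⁻¹ᵁ W) from z)) ?_
  exact (ConcreteCategory.congr_hom (i.naturality (homOfLE (le_top : W ≤ ⊤)).op)
    (Coh.toGlobal (X ↘ Spec (CommRingCat.of A)) a)).symm

include hi in
lemma secRing_push (W : X.Opens) (a : A) :
    i.app W (W7Cech.secRing A W a) = W7Cech.secRing A (i ⁻¹ᵁ W) a := by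
  have hg : Coh.toGlobal (Z ↘ Spec (CommRingCat.of A)) a =
      i.appTop (Coh.toGlobal (X ↘ Spec (CommRingCat.of A)) a) := by
    rw [← hi]
    simp only [Coh.toGlobal, Scheme.Hom.comp_appTop]
    rfl
  change i.app W (X.presheaf.map (homOfLE (le_top : W ≤ ⊤)).op (Coh.toGlobal (X ↘ Spec (CommRingCat.of A)) a)) =
    Z.presheaf.map (homOfLE (le_top : i ⁻¹ᵁ W ≤ ⊤)).op (Coh.toGlobal (Z ↘ Spec (CommRingCat.of A)) a)
  rw [hg]
  exact ConcreteCategory.congr_hom (i.naturality (homOfLE (le_top : W ≤ ⊤)).op)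
    (Coh.toGlobal (X ↘ Spec (CommRingCat.of A)) a)

variable [IsClosedImmersion i] {F : X.Modules} (H : Z.Modules) (ω : (Scheme.Modules.pushforward i).obj H ≅ F)

include hi in
/-- `i_*(H/JH) = F/JF`. -/
lemma exists_iso_push_quot (hF : Coh.IsQCoh F) (hH : Coh.IsQCoh H) (J : Ideal A) :
    ∃ β : cokernel (Formal.smulFamily J F) ≅ (Scheme.Modules.pushforward i).obj (cokernel (Formal.smulFamily J H)),
      cokernel.π (Formal.smulFamily J F) ≫ β.hom =
        ω.inv ≫ (Scheme.Modules.pushforward i).map (cokernel.π (Formal.smulFamily J H)) := by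
  let P := Scheme.Modules.pushforward i
  have h0 : Formal.smulFamily J F ≫ ω.inv ≫ P.map (cokernel.π (Formal.smulFamily J H)) = 0 := by
    refine Sigma.hom_ext _ _ fun a => ?_
    rw [comp_zero, ← Category.assoc, show Sigma.ι (fun _ : J => F) a ≫ Formal.smulFamily J F = Formal.smulMod A F (a : A)
      from Sigma.ι_desc _ a, ← Category.assoc, W7Cech.smulMod_natural, Category.assoc,
      ← smulMod_push i hi, ← P.map_comp]
    have h := congrArg (Sigma.ι (fun _ : J => H) a ≫ ·) (cokernel.condition (Formal.smulFamily J H))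
    rw [← Category.assoc, show Sigma.ι (fun _ : J => H) a ≫ Formal.smulFamily J H = Formal.smulMod A H (a : A) from
      Sigma.ι_desc _ a, comp_zero] at h
    rw [show P.map (Formal.smulMod A H (a : A) ≫ cokernel.π _) = 0 from (congrArg P.map h).trans (P.map_zero _ _), comp_zero]
  let γ := cokernel.desc (Formal.smulFamily J F) _ h0
  have hZq := isQCoh_modQuot H J hH
  haveI : (cokernel (Formal.smulFamily J H)).IsQuasicoherent := hZq
  have hPq : Coh.IsQCoh (P.obj (cokernel (Formal.smulFamily J H))) := QC.isQCoh_pushforward i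
  haveI : IsIso γ := by
    refine QC.isIso_of_restrict_cover (fun U : X.affineOpens => U.2.fromSpec) (fun x => ?_) γ fun U => ?_
    · obtain ⟨U, hU, hxU, -⟩ := exists_isAffineOpen_mem_and_subset (x := x) (U := ⊤) trivial
      exact ⟨⟨U, hU⟩, by rwa [IsAffineOpen.range_fromSpec]⟩
    refine QC.isIso_restrict_of_bijective U.2 (isQCoh_modQuot F J hF) hPq γ ?_
    have hγ : ∀ s : Γ(F, U.1), γ.app U.1 ((cokernel.π (Formal.smulFamily J F)).app U.1 s) =
        (cokernel.π (Formal.smulFamily J H)).app (i ⁻¹ᵁ U.1) (ω.inv.app U.1 s) := fun s =>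
      congr(($(cokernel.π_desc (Formal.smulFamily J F) _ h0)).app U.1 s)
    have hb : Function.Bijective (ω.inv.app U.1) := ConcreteCategory.bijective_of_isIso _
    let Q : ModuleCat.{u} A := (W7Cech.secA A U.1).obj F
    let Q' : ModuleCat.{u} A := (W7Cech.secA A (i ⁻¹ᵁ U.1)).obj H
    let w : (Q : Type u) →ₗ[A] (Q' : Type u) :=
      { toFun := fun s => (ω.inv.app U.1 (show Γ(F, U.1) from s) :)
        map_add' := fun s t => map_add (ω.inv.app U.1).hom _ _
        map_smul' := fun a s => by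
          refine (Scheme.Modules.Hom.app_smul ω.inv (W7Cech.secRing A U.1 a) (show Γ(F, U.1) from s)).trans ?_
          exact congrArg (fun c => c • (show Γ(H, i ⁻¹ᵁ U.1) from ω.inv.app U.1 (show Γ(F, U.1) from s)))
            (secRing_push i hi U.1 a) }
    refine ⟨(injective_iff_map_eq_zero _).2 fun z hz => ?_, fun z => ?_⟩
    · obtain ⟨s, rfl⟩ := QC.app_surjective_of_epi U.2 hF (isQCoh_modQuot F J hF) (cokernel.π (Formal.smulFamily J F)) z
      rw [hγ] at hz
      refine (modQuot_eq_zero_iff F J hF U.2 s).2 ?_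
      have h1 : w (show (Q : Type u) from s) ∈ J • (⊤ : Submodule A (Q' : Type u)) :=
        (modQuot_eq_zero_iff H J hH (U.2.preimage i) _).1 hz
      have hm : (J • (⊤ : Submodule A (Q : Type u))).map w = J • (⊤ : Submodule A (Q' : Type u)) := by
        rw [Submodule.map_smul'', Submodule.map_top, show LinearMap.range w = ⊤ from LinearMap.range_eq_top.2 hb.2]
      rw [← hm] at h1
      obtain ⟨t, ht, hts⟩ := h1
      rwa [show (show (Q : Type u) from s) = t from hb.1 hts.symm]
    · obtain ⟨s', hs'⟩ := QC.app_surjective_of_epi (U.2.preimage i) hH hZq (cokernel.π (Formal.smulFamily J H)) z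
      obtain ⟨s, rfl⟩ := hb.2 s'
      exact ⟨_, (hγ s).trans hs'⟩
  exact ⟨asIso γ, cokernel.π_desc _ _ _⟩

omit H ω in
include hi in
theorem formal_functions_push [IsNoetherianRing A] [IsProper (Z ↘ Spec (CommRingCat.of A))] (H : Z.Modules)
    (hH : Coh.IsCoh H) (ω : (Scheme.Modules.pushforward i).obj H ≅ F) (hF : Coh.IsQCoh F)
    (I : Ideal A) (p : ℕ) :
    Module.Finite A (Coh.HH X F p) ∧
    ∃ Φ : AdicCompletion I (Coh.HH X F p) →+ Formal.HHlim I F p, Function.Bijective Φ ∧
      ∀ x, Φ (AdicCompletion.of I _ x) = Formal.toHHlim I F p x := by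
  classical
  let P := Scheme.Modules.pushforward i
  obtain ⟨Φ, hΦ, hΦ'⟩ := formal_functions I hH p
  obtain ⟨a, ha⟩ := h_push_natural_hom i.base p
  have hac : ∀ M : Z.Modules, Coh.IsQCoh M →
      DirectAcyclic (Opens.grothendieckTopology X) (Opens.map i.base) (Coh.toAb M) := fun M hM =>
    haveI : M.IsQuasicoherent := hM
    CohQC.directAcyclic_of_isAffineHom i M
  let e : ∀ M : Z.Modules, Coh.IsQCoh M → (Coh.HH Z M p ≃+ Coh.HH X (P.obj M) p) := fun M hM =>
    a (Coh.toAb M) (hac M hM)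
  have he : ∀ (M N : Z.Modules) (hM : Coh.IsQCoh M) (hN : Coh.IsQCoh N) (φ : M ⟶ N) (x : Coh.HH Z M p),
      e N hN (hm φ p x) = hm (P.map φ) p (e M hM x) := fun M N hM hN φ x =>
    ha _ _ (hac M hM) (hac N hN) ((SheafOfModules.toSheaf _).map φ) x
  let ω' : Coh.HH Z H p ≃+ Coh.HH X F p :=
    (e H hH.1).trans (CohFinite.hhEquiv A ω p).toAddEquiv
  have hω : ∀ (c : A) (x : Coh.HH Z H p), ω' (c • x) = c • ω' x := by
    intro c x
    have h1 : c • x = hm (Formal.smulMod A H c) p x := rfl
    change CohFinite.hhEquiv A ω p (e H hH.1 (c • x)) = c • CohFinite.hhEquiv A ω p (e H hH.1 x)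
    rw [h1, he _ _ hH.1 hH.1, smulMod_push i hi, ← map_smul]
    rfl
  let ωL : Coh.HH Z H p ≃ₗ[A] Coh.HH X F p := ω'.toLinearEquiv hω
  choose β hβ using fun n : ℕ => exists_iso_push_quot i hi H ω hF hH.1 (I ^ n)
  have hβt : ∀ n, Formal.modPowTrans I n F ≫ (β n).hom = (β (n + 1)).hom ≫ P.map (Formal.modPowTrans I n H) := by
    intro n
    haveI : Epi (Formal.modPowπ I (n + 1) F) := inferInstanceAs (Epi (cokernel.π _))
    rw [← cancel_epi (Formal.modPowπ I (n + 1) F), ← Category.assoc, Formal.modPowπ_trans, ← Category.assoc]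
    change cokernel.π _ ≫ (β n).hom = (cokernel.π _ ≫ (β (n + 1)).hom) ≫ _
    rw [hβ n, hβ (n + 1), Category.assoc]
    refine congrArg (ω.inv ≫ ·) ?_
    rw [← P.map_comp]
    exact congrArg P.map (Formal.modPowπ_trans I n H).symm
  let ε : ∀ n, Formal.HHmodPow I H p n ≃+ Formal.HHmodPow I F p n := fun n =>
    (e _ (isQCoh_modQuot H _ hH.1)).trans (CohFinite.hhEquiv A (β (n + 1)).symm p).toAddEquiv
  have hεt : ∀ n x, Formal.HHmodPowTrans I F p n (ε (n + 1) x) = ε n (Formal.HHmodPowTrans I H p n x) := by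
    intro n x
    change hm (Formal.modPowTrans I (n + 1) F) p
        (hm (β (n + 1 + 1)).inv p (e (Formal.modPow I (n + 1 + 1) H) (isQCoh_modQuot H _ hH.1) x)) =
      hm (β (n + 1)).inv p (e (Formal.modPow I (n + 1) H) (isQCoh_modQuot H _ hH.1)
        (hm (Formal.modPowTrans I (n + 1) H) p x))
    rw [he (Formal.modPow I (n + 1 + 1) H) (Formal.modPow I (n + 1) H) (isQCoh_modQuot H _ hH.1)
      (isQCoh_modQuot H _ hH.1)]
    refine (hm_comp (β (n + 1 + 1)).inv _ p _).symm.trans
      (Eq.trans ?_ (hm_comp (P.map (Formal.modPowTrans I (n + 1) H)) (β (n + 1)).inv p _))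
    refine congrArg (fun φ => hm φ p _) ?_
    rw [Iso.inv_comp_eq, ← Category.assoc, ← hβt, Category.assoc, Iso.hom_inv_id, Category.comp_id]
  have hεπ : ∀ n x, ε n (Formal.toHHmodPow I H p n x) = Formal.toHHmodPow I F p n (ω' x) := by
    intro n x
    change hm (β (n + 1)).inv p (e (Formal.modPow I (n + 1) H) (isQCoh_modQuot H _ hH.1) (hm (qπ H (I ^ (n + 1))) p x)) =
      hm (qπ F (I ^ (n + 1))) p (hm ω.hom p (e H hH.1 x))
    refine (congrArg (hm (β (n + 1)).inv p)
      (he H (Formal.modPow I (n + 1) H) hH.1 (isQCoh_modQuot H _ hH.1) (qπ H (I ^ (n + 1))) x)).trans ?_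
    refine (hm_comp (P.map (qπ H (I ^ (n + 1)))) (β (n + 1)).inv p _).symm.trans
      (Eq.trans ?_ (hm_comp ω.hom (qπ F (I ^ (n + 1))) p _))
    refine congrArg (fun φ => hm φ p _) ?_
    rw [Iso.comp_inv_eq, Category.assoc, hβ (n + 1), Iso.hom_inv_id_assoc]
  let lf : Formal.HHlim I H p ≃+ Formal.HHlim I F p :=
    { toFun := fun y => ⟨fun n => ε n (y.1 n), fun n => by rw [hεt, y.2 n]⟩
      invFun := fun y => ⟨fun n => (ε n).symm (y.1 n), fun n => (ε n).injective (by
        rw [← hεt, AddEquiv.apply_symm_apply, AddEquiv.apply_symm_apply, y.2 n])⟩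
      left_inv := fun y => Subtype.ext (funext fun n => (ε n).symm_apply_apply _)
      right_inv := fun y => Subtype.ext (funext fun n => (ε n).apply_symm_apply _)
      map_add' := fun y y' => Subtype.ext (funext fun n => map_add (ε n) _ _) }
  let cg := AdicCompletion.congr I ωL.symm
  haveI := CohFinite.finite_proper A Z H hH p
  refine ⟨Module.Finite.equiv ωL, lf.toAddMonoidHom.comp (Φ.comp cg.toAddEquiv.toAddMonoidHom),
    lf.bijective.comp (hΦ.comp cg.bijective), fun x => ?_⟩
  obtain ⟨x, rfl⟩ := ω'.surjective x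
  change lf (Φ (cg (AdicCompletion.of I _ (ωL x)))) = _
  rw [show cg (AdicCompletion.of I _ (ωL x)) = AdicCompletion.of I _ x from
    (AdicCompletion.map_of I ωL.symm.toLinearMap _).trans (congrArg _ (ωL.symm_apply_apply x)), hΦ']
  exact Subtype.ext (funext fun n => hεπ n x)

omit i hi in
theorem formal_functions_properSupport [IsNoetherianRing A] [LocallyOfFiniteType (X ↘ Spec (CommRingCat.of A))]
    (F : X.Modules) (hF : Coh.IsCoh F)
    (hs : ClSub.IsProperOver (X ↘ Spec (CommRingCat.of A)) (CohB1.support F)) (I : Ideal A) (p : ℕ) :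
    Module.Finite A (Coh.HH X F p) ∧
    ∃ Φ : AdicCompletion I (Coh.HH X F p) →+ Formal.HHlim I F p, Function.Bijective Φ ∧
      ∀ x, Φ (AdicCompletion.of I _ x) = Formal.toHHlim I F p x := by
  haveI : IsLocallyNoetherian X := LocallyOfFiniteType.isLocallyNoetherian (X ↘ Spec (CommRingCat.of A))
  let K := ClSubLib.annIdeal F hF.1 hF.2
  letI : K.subscheme.Over (Spec (CommRingCat.of A)) := ⟨K.subschemeι ≫ (X ↘ Spec (CommRingCat.of A))⟩
  haveI : IsProper (K.subscheme ↘ Spec (CommRingCat.of A)) :=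
    ClSubLib.isProper_comp _ K.subschemeι hs (ClSubLib.range_annIdeal F hF.1 hF.2).le
  obtain ⟨H, hH, ⟨ω⟩⟩ := ClSubLib.exists_pushforward_iso K.subschemeι F hF
    (by rw [K.ker_subschemeι]; exact ClSubLib.killedBy_annIdeal F hF.1 hF.2)
  exact formal_functions_push K.subschemeι rfl H hH ω hF.1 I p

end Groth.Agent.W7Rees
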