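import Groth.Agent.W7Rees.HomLoc
import Groth.Agent.W7Rees.Push
import Groth.Agent.RefStalk.Generic
import Groth.Agent.QC.Support

/-!
Completion is fully faithful on coherent modules with properly meeting supports.
-/

set_option autoImplicit false
set_option backward.isDefEq.respectTransparency false
set_option backward.isDefEq.respectTransparency.types false
set_option linter.style.haveILetI false
set_option maxHeartbeats 1000000

universe u

open CategoryTheory CategoryTheory.Limits AlgebraicGeometry TopologicalSpace Opposite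
open Groth.Agent.QC (res resO res_res res_smul app_res)
open Groth.Agent.WeakAssLib (mgerm mgerm_smul mgerm_res ext_germ)
open Groth.Agent.SiteCoh

noncomputable section

namespace Groth.Agent.W7Rees

variable {A : Type u} [CommRing A] {X : Scheme.{u}} [X.Over (Spec (CommRingCat.of A))]
  (I : Ideal A) {M N : X.Modules}

lemma tr_tr (F : X.Modules) {a b c : ℕ} (h : a ≤ b) (h' : b ≤ c) :
    tr I F h' ≫ tr I F h = tr I F (h.trans h') := by
  haveI : Epi (Formal.modPowπ I c F) := inferInstanceAs (Epi (cokernel.π _))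
  rw [← cancel_epi (Formal.modPowπ I c F), ← Category.assoc, π_tr, π_tr, π_tr]

lemma compat_tr {F : X.Modules} (g : ∀ n, F ⟶ Formal.modPow I n N)
    (hg : ∀ n, g (n + 1) ≫ Formal.modPowTrans I n N = g n) {a b : ℕ} (h : a ≤ b) : g b ≫ tr I N h = g a := by
  induction b, h using Nat.le_induction with
  | base =>
    haveI : Epi (Formal.modPowπ I a N) := inferInstanceAs (Epi (cokernel.π _))
    rw [show tr I N (le_refl a) = 𝟙 _ from (cancel_epi (Formal.modPowπ I a N)).1 (by rw [π_tr, Category.comp_id]),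
      Category.comp_id]
  | succ b hb ih =>
    rw [← tr_tr I N hb (Nat.le_succ b), ← Category.assoc]
    exact (congrArg (· ≫ _) (hg b)).trans ih

/-- Global sections as cohomology in degree zero, naturally. -/
theorem exists_zero_natural :
    ∃ e : ∀ F : X.Modules, Coh.HH X F 0 ≃+ Γ(F, ⊤),
      ∀ (F G : X.Modules) (φ : F ⟶ G) (x : Coh.HH X F 0), e G (hm φ 0 x) = φ.app ⊤ (e F x) := by
  refine ⟨fun F => (huTerminalEquiv (Opens.grothendieckTopology X) (T := (⊤ : Opens X)) isTerminalTop
    (Coh.toAb F) 0).trans (hu0 (Coh.toAb F) (⊤ : Opens X)), fun F G φ x => ?_⟩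
  change hu0 (Coh.toAb G) (⊤ : Opens X) (huTerminalEquiv (Opens.grothendieckTopology X) isTerminalTop (Coh.toAb G) 0
    (Sheaf.H.map ((SheafOfModules.toSheaf _).map φ) 0 x)) = _
  rw [ProjCech.huTerminalEquiv_natural, CohFinite.hu0_natural]
  rfl

lemma support_homSh_subset (hM : CohB1.IsFT M) :
    CohB1.support (RefHull.homSh M N) ⊆ CohB1.support M ∩ CohB1.support N := by
  intro y hy
  by_contra h
  refine hy ?_
  haveI : Subsingleton (RefHull.StalkHom M N y) := by
    rcases not_and_or.1 h with h | h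
    · haveI : Subsingleton (M.presheaf.stalk y) := not_not.1 h
      exact ⟨fun a b => LinearMap.ext fun v => by rw [Subsingleton.elim v 0, map_zero, map_zero]⟩
    · haveI : Subsingleton (N.presheaf.stalk y) := not_not.1 h
      exact ⟨fun a b => LinearMap.ext fun v => Subsingleton.elim _ _⟩
  exact (RefStalk.evalStalk_injective (G := N) hM y).subsingleton

variable [IsNoetherianRing A] [IsAdicComplete I A] [LocallyOfFiniteType (X ↘ Spec (CommRingCat.of A))]
  [QuasiCompact (X ↘ Spec (CommRingCat.of A))]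

theorem exists_unique_hom (hM : Coh.IsCoh M) (hN : Coh.IsCoh N)
    (hs : ClSub.IsProperOver (X ↘ Spec (CommRingCat.of A)) (CohB1.support M ∩ CohB1.support N))
    (g : ∀ n, M ⟶ Formal.modPow I n N) (hg : ∀ n, g (n + 1) ≫ Formal.modPowTrans I n N = g n) :
    ∃! φ : M ⟶ N, ∀ n, φ ≫ Formal.modPowπ I n N = g n := by
  classical
  haveI : IsLocallyNoetherian X := LocallyOfFiniteType.isLocallyNoetherian (X ↘ Spec (CommRingCat.of A))
  haveI : CompactSpace X := QuasiCompact.compactSpace_of_compactSpace (X ↘ Spec (CommRingCat.of A))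
  haveI : IsNoetherian X := ⟨⟩
  let H := RefHull.homSh M N
  have hH : Coh.IsCoh H := RefStalk.isCoh_homSh hM hN
  have hsH : ClSub.IsProperOver (X ↘ Spec (CommRingCat.of A)) (CohB1.support H) :=
    ClSubLib.mono hs (QC.isClosed_support hH.2) (support_homSh_subset hM.2)
  obtain ⟨hfin, Φ, hΦ, hΦ'⟩ := formal_functions_properSupport H hH hsH I 0
  have hb : Function.Bijective (Formal.toHHlim I H 0) := by
    haveI := hfin
    haveI : IsAdicComplete I (Coh.HH X H 0) := AdicLim.isAdicComplete_of_finite I _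
    rw [show ⇑(Formal.toHHlim I H 0) = Φ ∘ AdicCompletion.of I _ from funext fun x => (hΦ' x).symm]
    exact hΦ.comp (AdicCompletion.of_bijective I _)
  obtain ⟨ι, hι, U, hU, -, hcov⟩ := QC.exists_finite_affine_cover (X := X) (W := ⊤) CompactSpace.isCompact_univ
  choose κ hκ W hW hWle hWcov using fun p : ι × ι =>
    QC.exists_finite_affine_cover (W := U p.1 ⊓ U p.2) (TopologicalSpace.NoetherianSpace.isCompact _)
  choose c hc using fun i => exists_local I hM hN (hU i)
  choose d hd using fun q : Σ p : ι × ι, κ p => exists_local I hM hN (hW q.1 q.2)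
  let C := Finset.univ.sup c + Finset.univ.sup d
  have hcC : ∀ i, c i ≤ C := fun i => le_trans (Finset.le_sup (Finset.mem_univ i)) (Nat.le_add_right _ _)
  have hdC : ∀ q, d q ≤ C := fun q => le_trans (Finset.le_sup (Finset.mem_univ q)) (Nat.le_add_left _ _)
  -- two lifts give the same class
  have hagree : ∀ (n : ℕ) (i j : ι) (h : Γ(H, U i)) (h' : Γ(H, U j)), Cg I h (g (n + C)) → Cg I h' (g (n + C)) →
      res (Formal.modPow I n H) (inf_le_left : U i ⊓ U j ≤ U i) ((Formal.modPowπ I n H).app _ h) =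
        res (Formal.modPow I n H) (inf_le_right : U i ⊓ U j ≤ U j) ((Formal.modPowπ I n H).app _ h') := by
    intro n i j h h' hh hh'
    refine QC.section_eq_of_locally fun x hx => ?_
    obtain ⟨k, hk⟩ := hWcov (i, j) x hx
    refine ⟨W (i, j) k, hWle (i, j) k, hk, ?_⟩
    rw [res_res, res_res, app_res, app_res, ← sub_eq_zero, ← map_sub]
    have h0 := (hd ⟨(i, j), k⟩ (n + C)).1 _ (Cg.sub (hh.res ((hWle (i, j) k).trans inf_le_left))
      (hh'.res ((hWle (i, j) k).trans inf_le_right)))
    have hle : n ≤ n + C - d ⟨(i, j), k⟩ := by have := hdC ⟨(i, j), k⟩; omega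
    refine (congr(($(π_tr I H hle)).app (W (i, j) k) _)).symm.trans ?_
    refine (congrArg ((tr I H hle).app (W (i, j) k)) h0).trans ?_
    exact map_zero ((tr I H hle).app (W (i, j) k)).hom
  have hlift : ∀ (n : ℕ) (i : ι), ∃ h : Γ(H, U i), Cg I h (g (n + C)) := fun n i => by
    obtain ⟨h, hh⟩ := (hc i (n + C + C)).2 (g (n + C + C))
    refine ⟨h, ?_⟩
    have h1 := hh.tr (show n + C ≤ n + C + C - c i by have := hcC i; omega)
    rwa [Category.assoc, tr_tr, compat_tr I g hg] at h1
  choose L hL using hlift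
  have hglue : ∀ n, ∃ s : Γ(Formal.modPow I n H, ⊤), ∀ i,
      res _ (le_top : U i ≤ ⊤) s = (Formal.modPowπ I n H).app _ (L n i) := fun n => by
    obtain ⟨s, hs, -⟩ := TopCat.Sheaf.existsUnique_gluing' (Groth.Agent.QC.abSheaf (Formal.modPow I n H)) U ⊤
      (fun i => homOfLE le_top) (fun x hx => Opens.mem_iSup.2 (hcov x hx))
      (fun i => (Formal.modPowπ I n H).app _ (L n i)) fun i j => hagree n i j _ _ (hL n i) (hL n j)
    exact ⟨s, hs⟩
  choose s hs using hglue
  have hext : ∀ {F : X.Modules} (a b : Γ(F, ⊤)),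
      (∀ i, res F (le_top : U i ≤ ⊤) a = res F (le_top : U i ≤ ⊤) b) → a = b := fun a b h =>
    QC.section_eq_of_locally fun x hx => by
      obtain ⟨i, hi⟩ := hcov x hx
      exact ⟨U i, le_top, hi, h i⟩
  have hstep : ∀ n, (Formal.modPowTrans I n H).app ⊤ (s (n + 1)) = s n := fun n => hext _ _ fun i => by
    rw [app_res, hs (n + 1), hs n]
    refine (congr(($(Formal.modPowπ_trans I n H)).app (U i) (L (n + 1) i))).trans ?_
    have h1 := (hL (n + 1) i).tr (show n + C ≤ n + 1 + C by omega)
    rw [compat_tr I g hg] at h1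
    have h2 := congrArg (res _ (le_inf le_rfl le_rfl : U i ≤ U i ⊓ U i)) (hagree n i i _ _ h1 (hL n i))
    rwa [res_res, res_res, QC.res_self, QC.res_self] at h2
  obtain ⟨e, he⟩ := exists_zero_natural (X := X)
  let Y : Formal.HHlim I H 0 := ⟨fun n => (e _).symm (s (n + 1)), fun n => (e _).injective (by
    refine (he _ _ _ _).trans ?_
    rw [AddEquiv.apply_symm_apply, AddEquiv.apply_symm_apply]
    exact hstep (n + 1))⟩
  obtain ⟨x, hx⟩ := hb.2 Y
  have hsec : ∀ n, (Formal.modPowπ I n H).app ⊤ (e H x) = s n := by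
    have h1 : ∀ n, (Formal.modPowπ I (n + 1) H).app ⊤ (e H x) = s (n + 1) := fun n => by
      rw [← he]
      exact (congrArg (e _) (congrFun (congrArg Subtype.val hx) n)).trans ((e _).apply_symm_apply _)
    intro n
    rw [← hstep n, ← h1 n]
    exact (congr(($(Formal.modPowπ_trans I n H)).app ⊤ (e H x))).symm
  obtain ⟨φ, hφ⟩ := RefStalk.exists_hom (e H x)
  have hhom : ∀ {F G : X.Modules} (a b : F ⟶ G),
      (∀ y, RefHull.stalkMapₗ a y = RefHull.stalkMapₗ b y) → a = b := fun {F G} a b h =>
    Scheme.Modules.hom_ext _ _ fun V => by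
      ext m
      exact RefStalk.germ_ext fun y hy =>
        (RefHull.stalkMapₗ_germ a y hy m).symm.trans ((congr($(h y) _)).trans (RefHull.stalkMapₗ_germ b y hy m))
  refine ⟨φ, fun n => hhom _ _ fun y => ?_, fun φ' hφ' => hhom _ _ fun y => ?_⟩
  · obtain ⟨i, hi⟩ := hcov y trivial
    rw [stalkMapₗ_comp, hφ]
    have h0 : (Formal.modPowπ I n H).app (U i) (res H (le_top : U i ≤ ⊤) (e H x) - L n i) = 0 := by
      rw [map_sub, sub_eq_zero, ← app_res, hsec, hs]
    have h1 := cg_zero_of_π_app I hM hN (hU i) n _ h0 y hi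
    change (RefHull.stalkMapₗ (Formal.modPowπ I n N) y).comp
      ((e H x).1 ⟨y, trivial⟩ - (L n i).1 ⟨y, hi⟩) = 0 at h1
    rw [LinearMap.comp_sub, sub_eq_zero] at h1
    rw [h1]
    have h2 := (hL n i).tr (Nat.le_add_right n C)
    rw [compat_tr I g hg] at h2
    exact h2 y hi
  · have hd0 : RefHull.ofHom φ' (⊤ : X.Opens) = e H x := by
      refine (e H).symm.injective (hb.1 (Subtype.ext (funext fun n => (e _).injective ?_)))
      refine (he _ _ _ _).trans (Eq.trans ?_ (he _ _ _ _).symm)
      rw [AddEquiv.apply_symm_apply, AddEquiv.apply_symm_apply, hsec]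
      refine hext _ _ fun i => ?_
      rw [hs, app_res]
      have hc' : Cg I (res H (le_top : U i ≤ ⊤) (RefHull.ofHom φ' ⊤)) (g (n + 1 + C)) := fun z hz => by
        rw [← hφ', stalkMapₗ_comp]
        rfl
      have h2 := congrArg (res _ (le_inf le_rfl le_rfl : U i ≤ U i ⊓ U i))
        (hagree (n + 1) i i _ _ hc' (hL (n + 1) i))
      rwa [res_res, res_res, QC.res_self, QC.res_self] at h2
    rw [hφ, ← hd0]
    rfl

/-- The completion functor is fully faithful. -/
theorem completion_full (hM : Coh.IsCoh M) (hN : Coh.IsCoh N)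
    (hs : ClSub.IsProperOver (X ↘ Spec (CommRingCat.of A)) (CohB1.support M ∩ CohB1.support N))
    (ψ : Formal.completion I M ⟶ Formal.completion I N) :
    ∃! φ : M ⟶ N, ∀ n : ℕ, Formal.modPowπ I (n + 1) M ≫ ψ.app (op n) = φ ≫ Formal.modPowπ I (n + 1) N := by
  let g : ∀ n, M ⟶ Formal.modPow I n N := fun n => match n with
    | 0 => (Formal.modPowπ I 1 M ≫ ψ.app (op 0)) ≫ Formal.modPowTrans I 0 N
    | k + 1 => Formal.modPowπ I (k + 1) M ≫ ψ.app (op k)
  have hg : ∀ n, g (n + 1) ≫ Formal.modPowTrans I n N = g n := by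
    intro n
    cases n with
    | zero => rfl
    | succ k =>
      change (Formal.modPowπ I (k + 1 + 1) M ≫ ψ.app (op (k + 1))) ≫ Formal.modPowTrans I (k + 1) N = _
      have h := ψ.naturality (homOfLE (Nat.le_succ k)).op
      rw [show (Formal.completion I M).map (homOfLE (Nat.le_succ k)).op = Formal.modPowTrans I (k + 1) M from
        Functor.ofOpSequence_map_homOfLE_succ _ k, show (Formal.completion I N).map (homOfLE (Nat.le_succ k)).op =
        Formal.modPowTrans I (k + 1) N from Functor.ofOpSequence_map_homOfLE_succ _ k] at h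
      refine (Category.assoc _ _ _).trans ((congrArg (_ ≫ ·) h.symm).trans ?_)
      exact (Category.assoc _ _ _).symm.trans (congrArg (· ≫ ψ.app (op k)) (Formal.modPowπ_trans I (k + 1) M))
  obtain ⟨φ, hφ, huniq⟩ := exists_unique_hom I hM hN hs g hg
  refine ⟨φ, fun n => (hφ (n + 1)).symm, fun φ' hφ' => huniq φ' fun n => ?_⟩
  cases n with
  | zero =>
    rw [← Formal.modPowπ_trans I 0 N, ← Category.assoc]
    exact congrArg (· ≫ _) (hφ' 0).symm
  | succ k => exact (hφ' k).symm

end Groth.Agent.W7Rees
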