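import Groth.Agent.W7Rees.Finite
import Groth.Agent.W7Rees.Sections
import Groth.Agent.W7Cech.Approx

/-!
Formal functions: kernels, images and stability in the cohomology of `F/I^nF` and `I^nF`.
-/

set_option autoImplicit false
set_option backward.isDefEq.respectTransparency false
set_option backward.isDefEq.respectTransparency.types false
set_option linter.style.haveILetI false
set_option maxHeartbeats 1000000

universe u

open CategoryTheory CategoryTheory.Limits AlgebraicGeometry TopologicalSpace Opposite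
open Groth.Agent.SiteCoh

noncomputable section

namespace Groth.Agent.W7Rees

variable {A : Type u} [CommRing A] {X : Scheme.{u}} [X.Over (Spec (CommRingCat.of A))]
  (F : X.Modules)

/-- The projection to `F/JF`. -/
abbrev qπ (J : Ideal A) : F ⟶ cokernel (Formal.smulFamily J F) := cokernel.π _

/-- The inclusion of `JF`. -/
abbrev kι (J : Ideal A) : kernel (qπ F J) ⟶ F := kernel.ι _

/-- The map on cohomology. -/
abbrev hm {M N : X.Modules} (φ : M ⟶ N) (p : ℕ) : Coh.HH X M p →+ Coh.HH X N p :=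
  Sheaf.H.map ((SheafOfModules.toSheaf _).map φ) p

lemma hm_comp {M N P : X.Modules} (φ : M ⟶ N) (ψ : N ⟶ P) (p : ℕ) (x : Coh.HH X M p) :
    hm (φ ≫ ψ) p x = hm ψ p (hm φ p x) := (Formal.HHmap_comp φ ψ p x).symm

variable [IsNoetherianRing A] [IsProper (X ↘ Spec (CommRingCat.of A))] (I : Ideal A)

lemma exists_goodCover (A : Type u) [CommRing A] (X : Scheme.{u}) [X.Over (Spec (CommRingCat.of A))]
    [IsProper (X ↘ Spec (CommRingCat.of A))] : ∃ (ι : Type u) (_ : Finite ι) (U : ι → X.Opens),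
    (∀ (n : ℕ) (a : Fin (n + 1) → ι), IsAffineOpen (tupleProd U a)) ∧ iSup U = ⊤ := by
  haveI : CompactSpace X := QuasiCompact.compactSpace_of_compactSpace (X ↘ Spec (CommRingCat.of A))
  haveI : X.IsSeparated := by
    constructor
    rw [← terminal.comp_from (X ↘ Spec (CommRingCat.of A))]
    infer_instance
  obtain ⟨ι, hι, W, hW, hcov⟩ := W7Cech.exists_cover X
  exact ⟨ι, hι, W, hW, hcov⟩

variable {ι : Type u} [Finite ι] (U : ι → X.Opens)
  (hU : ∀ (n : ℕ) (a : Fin (n + 1) → ι), IsAffineOpen (tupleProd U a)) (hcov : iSup U = ⊤)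

include hU hcov in
/-- Classes killed in `F/JF` come from cocycles in `J`. -/
lemma exists_rep_of_ker (hq : Coh.IsQCoh F) (J : Ideal A) (p i k : ℕ) (hi : (ComplexShape.up ℕ).prev p = i)
    (hk : (ComplexShape.up ℕ).next p = k)
    {cl : ∀ M : X.Modules, Coh.IsQCoh M → (LinearMap.ker (cdl A U M p k) →ₗ[A] Coh.HH X M p)}
    (h1 : ∀ M hM, Function.Surjective (cl M hM))
    (h2 : ∀ M hM z, cl M hM z = 0 ↔ (z : (((W7Cech.CC A U).obj M).X p : Type u)) ∈ LinearMap.range (cdl A U M i p))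
    (h3 : ∀ (M N : X.Modules) (hM : Coh.IsQCoh M) (hN : Coh.IsQCoh N) (φ : M ⟶ N)
        (z : LinearMap.ker (cdl A U M p k)) (h : cmp A U φ p z ∈ LinearMap.ker (cdl A U N p k)),
        hm φ p (cl M hM z) = cl N hN ⟨_, h⟩) (x : Coh.HH X F p) :
    hm (qπ F J) p x = 0 ↔ ∃ z : LinearMap.ker (cdl A U F p k),
      (z : (((W7Cech.CC A U).obj F).X p : Type u)) ∈ J • (⊤ : Submodule A _) ∧ cl F hq z = x := by
  have hQ := isQCoh_modQuot F J hq
  have hcyc : ∀ z : LinearMap.ker (cdl A U F p k),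
      cmp A U (qπ F J) p z ∈ LinearMap.ker (cdl A U (cokernel (Formal.smulFamily J F)) p k) := fun z => by
    rw [LinearMap.mem_ker, ← cmp_cdl, LinearMap.mem_ker.1 z.2, map_zero]
  constructor
  · intro h
    obtain ⟨z, rfl⟩ := h1 F hq x
    rw [h3 _ _ hq hQ _ z (hcyc z), h2] at h
    obtain ⟨w, hw⟩ := h
    obtain ⟨v, rfl⟩ := cmp_quot_surjective U F J hq hU i w
    rw [← cmp_cdl] at hw
    have hb : cdl A U F i p v ∈ LinearMap.ker (cdl A U F p k) :=
      congr($(((W7Cech.CC A U).obj F).d_comp_d i p k).hom v)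
    refine ⟨z - ⟨_, hb⟩, ?_, ?_⟩
    · rw [← cmp_quot_eq_zero_iff U F J hq hU p, Submodule.coe_sub, map_sub, hw, sub_self]
    · rw [map_sub, (h2 F hq ⟨_, hb⟩).2 ⟨v, rfl⟩, sub_zero]
  · rintro ⟨z, hz, rfl⟩
    rw [h3 _ _ hq hQ _ z (hcyc z), h2]
    exact ⟨0, (map_zero _).trans ((cmp_quot_eq_zero_iff U F J hq hU p z).2 hz).symm⟩

variable {F}

include hU hcov in
/-- The kernels are a good filtration. -/
theorem exists_ker_subset_aux (hF : Coh.IsCoh F) (p : ℕ) :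
    ∃ c : ℕ, ∀ k, c ≤ k → ∀ r : ℕ, ∀ x : Coh.HH X F p, hm (qπ F (I ^ (k + r))) p x = 0 →
      x ∈ (I ^ r • Submodule.span A {y : Coh.HH X F p | hm (qπ F (I ^ k)) p y = 0} : Submodule A (Coh.HH X F p)) := by
  classical
  let i := (ComplexShape.up ℕ).prev p
  let j := (ComplexShape.up ℕ).next p
  obtain ⟨cl, h1, h2, h3⟩ := exists_cl A U hU hcov p i j rfl rfl
  obtain ⟨c, hc⟩ := exists_mem_smul_ker (reesFinite_cech I F U hU hcov hF i p j rfl rfl)
  refine ⟨c, fun k hk r x hx => ?_⟩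
  obtain ⟨z, hz, rfl⟩ := (exists_rep_of_ker F U hU hcov hF.1 _ p i j rfl rfl h1 h2 h3 x).1 hx
  let W : Submodule A (((W7Cech.CC A U).obj F).X p : Type u) :=
    (Submodule.comap (cl F hF.1)
      (I ^ r • Submodule.span A {y : Coh.HH X F p | hm (qπ F (I ^ k)) p y = 0})).map (LinearMap.ker _).subtype
  have hW : I ^ r • ((I ^ k • ⊤ : Submodule A _) ⊓ LinearMap.ker (cdl A U F p j)) ⊔
      (I ^ (k + r) • ⊤ : Submodule A _).map (cdl A U F i p) ≤ W := by
    refine sup_le (Submodule.smul_le.2 fun a ha w hw => ?_) ?_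
    · refine ⟨a • ⟨w, hw.2⟩, ?_, rfl⟩
      rw [SetLike.mem_coe, Submodule.mem_comap, map_smul]
      refine Submodule.smul_mem_smul ha (Submodule.subset_span ?_)
      exact (exists_rep_of_ker F U hU hcov hF.1 _ p i j rfl rfl h1 h2 h3 _).2 ⟨⟨w, hw.2⟩, hw.1, rfl⟩
    · rintro _ ⟨v, -, rfl⟩
      refine ⟨⟨_, congr($(((W7Cech.CC A U).obj F).d_comp_d i p j).hom v)⟩, ?_, rfl⟩
      rw [SetLike.mem_coe, Submodule.mem_comap, (h2 F hF.1 _).2 ⟨v, rfl⟩]
      exact zero_mem _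
  obtain ⟨z', hz', he⟩ := hW (hc k hk r ⟨hz, z.2⟩)
  rwa [show z' = z from Subtype.ext he] at hz'

include hU hcov in
/-- Multiplication by `I^r` moves the kernels `r` steps down. -/
theorem smul_ker_aux (hq : Coh.IsQCoh F) (p k r : ℕ) (a : A) (ha : a ∈ I ^ r) (x : Coh.HH X F p)
    (hx : hm (qπ F (I ^ k)) p x = 0) : hm (qπ F (I ^ (r + k))) p (a • x) = 0 := by
  let i := (ComplexShape.up ℕ).prev p
  let j := (ComplexShape.up ℕ).next p
  obtain ⟨cl, h1, h2, h3⟩ := exists_cl A U hU hcov p i j rfl rfl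
  obtain ⟨z, hz, rfl⟩ := (exists_rep_of_ker F U hU hcov hq _ p i j rfl rfl h1 h2 h3 x).1 hx
  refine (exists_rep_of_ker F U hU hcov hq _ p i j rfl rfl h1 h2 h3 _).2 ⟨a • z, ?_, map_smul _ _ _⟩
  rw [pow_add, Submodule.mul_smul]
  exact Submodule.smul_mem_smul ha hz

include hU hcov in
/-- Mittag-Leffler. -/
theorem exists_range_subset_aux (hF : Coh.IsCoh F) (p : ℕ) :
    ∃ c : ℕ, ∀ n k, n + c ≤ k → ∀ φ : cokernel (Formal.smulFamily (I ^ k) F) ⟶ cokernel (Formal.smulFamily (I ^ n) F),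
      qπ F (I ^ k) ≫ φ = qπ F (I ^ n) → Set.range (hm φ p) ⊆ Set.range (hm (qπ F (I ^ n)) p) := by
  classical
  let i := (ComplexShape.up ℕ).prev p
  let j := (ComplexShape.up ℕ).next p
  have hj : (ComplexShape.up ℕ).prev j = p := (ComplexShape.up ℕ).prev_eq' (show p + 1 = j from (CochainComplex.next ℕ p).symm)
  obtain ⟨cl, h1, h2, h3⟩ := exists_cl A U hU hcov p i j rfl rfl
  obtain ⟨c, hc⟩ := exists_mem_map_of_range
    (show cdl A U F j ((ComplexShape.up ℕ).next j) ∘ₗ cdl A U F p j = 0 from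
      congrArg ModuleCat.Hom.hom (((W7Cech.CC A U).obj F).d_comp_d p j ((ComplexShape.up ℕ).next j)))
    (reesFinite_cech I F U hU hcov hF p j ((ComplexShape.up ℕ).next j) hj rfl)
  refine ⟨c, fun n k hnk φ hφ => ?_⟩
  rintro _ ⟨y, rfl⟩
  have hk := isQCoh_modQuot F (I ^ k) hF.1
  have hn := isQCoh_modQuot F (I ^ n) hF.1
  obtain ⟨w, rfl⟩ := h1 _ hk y
  obtain ⟨x, hx⟩ := cmp_quot_surjective U F (I ^ k) hF.1 hU p w.1
  have hdx : cdl A U F p j x ∈ (I ^ k • ⊤ : Submodule A _) ⊓ LinearMap.range (cdl A U F p j) := by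
    refine ⟨(cmp_quot_eq_zero_iff U F (I ^ k) hF.1 hU j _).1 ?_, x, rfl⟩
    rw [cmp_cdl, hx]
    exact w.2
  obtain ⟨v, hv, hgv⟩ := hc k (by omega) hdx
  have hz : x - v ∈ LinearMap.ker (cdl A U F p j) := by rw [LinearMap.mem_ker, map_sub, hgv, sub_self]
  refine ⟨cl F hF.1 ⟨_, hz⟩, ?_⟩
  have hv0 : cmp A U (qπ F (I ^ n)) p v = 0 := (cmp_quot_eq_zero_iff U F (I ^ n) hF.1 hU p v).2
    (Submodule.smul_mono (Ideal.pow_le_pow_right (by omega)) le_rfl hv)
  rw [h3 _ _ hF.1 hn _ _ (by rw [LinearMap.mem_ker, ← cmp_cdl, LinearMap.mem_ker.1 hz, map_zero]),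
    h3 _ _ hk hn _ w (by rw [LinearMap.mem_ker, ← cmp_cdl, LinearMap.mem_ker.1 w.2, map_zero])]
  refine congrArg (cl _ hn) (Subtype.ext ?_)
  change cmp A U (qπ F (I ^ n)) p (x - v) = cmp A U φ p w.1
  rw [map_sub, hv0, sub_zero, ← hx, ← cmp_comp, hφ]

end Groth.Agent.W7Rees
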