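import Groth.Agent.W7Rees.Alg
import Groth.Agent.W7Cech.BCComplex
import Groth.Agent.W7Cech.ModPow
import Groth.Agent.FlatCx.FlatBC
import Groth.Agent.CohFinite.Proper

/-!
Finiteness of the cohomology of the Rees complex of a coherent sheaf on a proper scheme.
-/

set_option autoImplicit false
set_option backward.isDefEq.respectTransparency false
set_option backward.isDefEq.respectTransparency.types false
set_option linter.style.haveILetI false
set_option maxHeartbeats 1000000

universe u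

open CategoryTheory CategoryTheory.Limits AlgebraicGeometry TopologicalSpace Opposite
open TensorProduct LaurentPolynomial
open Groth.Agent.QC (res resO res_res res_smul app_res)
open Groth.Agent.SiteCoh
open scoped LaurentPolynomial

noncomputable section

namespace Groth.Agent.W7Rees

variable {A : Type u} [CommRing A] (I : Ideal A)

/-- The parameter. -/
def sPar (j : ℕ) : RA I := RA.mk _ (T_neg_mem I j)

lemma sPar_eq_pow (j : ℕ) : sPar I j = sPar I 1 ^ j := RA.val_injective I (by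
  rw [map_pow]
  change (T (-(j : ℤ)) : A[T;T⁻¹]) = (T (-((1 : ℕ) : ℤ))) ^ j
  rw [T_pow, Nat.cast_one, mul_neg_one])

/-- The part in degrees at most zero. -/
def truncNonpos : A[T;T⁻¹] →ₗ[A] RA I where
  toFun f := RA.mk (AddMonoidAlgebra.ofCoeff (f.coeff.filter (· ≤ 0))) fun n => by
    rw [AddMonoidAlgebra.coeff_ofCoeff, Finsupp.filter_apply]
    split_ifs with h
    · rw [Int.toNat_eq_zero.2 h, pow_zero, Ideal.one_eq_top]; trivial
    · exact zero_mem _
  map_add' f g := RA.val_injective I (AddMonoidAlgebra.coeff_injective (by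
    simp [RA.val, RA.mk, AddMonoidAlgebra.coeff_add, Finsupp.filter_add]
    rfl))
  map_smul' r f := RA.val_injective I (AddMonoidAlgebra.coeff_injective (by
    simp [RA.val, RA.mk, AddMonoidAlgebra.coeff_smul, Finsupp.filter_smul]
    rfl))

variable {M N : Type u} [AddCommGroup M] [Module A M] [AddCommGroup N] [Module A N]

variable (M) in
/-- The map to the Laurent tensors. -/
def mu : RA I ⊗[A] M →ₗ[RA I] A[T;T⁻¹] ⊗[A] M :=
  AlgebraTensorModule.map (Algebra.linearMap (RA I) A[T;T⁻¹]) (LinearMap.id : M →ₗ[A] M)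

lemma mu_tmul (b : RA I) (m : M) : mu I M (b ⊗ₜ[A] m) = (RA.val I b) ⊗ₜ[A] m := rfl

lemma range_mu : LinearMap.range (mu I M) = reesMod I M := rfl

lemma mu_baseChange (g : M →ₗ[A] N) (x : RA I ⊗[A] M) :
    mu I N (g.baseChange (RA I) x) = g.baseChange A[T;T⁻¹] (mu I M x) := by
  induction x using TensorProduct.induction_on with
  | zero => simp
  | tmul b m => rw [LinearMap.baseChange_tmul, mu_tmul, mu_tmul, LinearMap.baseChange_tmul]
  | add a b ha hb => simp only [map_add, ha, hb]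

lemma exists_smul_eq_zero_of_mu {x : RA I ⊗[A] M} (hx : mu I M x = 0) :
    ∃ j, sPar I j • x = 0 := by
  have key : ∀ y : RA I ⊗[A] M, ∃ j₀ : ℕ, ∀ j, j₀ ≤ j → sPar I j • y =
      ((truncNonpos I) ∘ₗ LinearMap.mulLeft A (T (-(j : ℤ)) : A[T;T⁻¹])).rTensor M (mu I M y) := by
    classical
    intro y
    induction y using TensorProduct.induction_on with
    | zero => exact ⟨0, fun j _ => by simp⟩
    | tmul b m =>
      refine ⟨(RA.val I b).coeff.support.sup Int.toNat, fun j hj => ?_⟩
      rw [mu_tmul, LinearMap.rTensor_tmul, TensorProduct.smul_tmul']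
      congr 1
      refine RA.val_injective I ?_
      rw [smul_eq_mul, map_mul]
      change (T (-(j : ℤ)) : A[T;T⁻¹]) * (RA.val I b) =
        AddMonoidAlgebra.ofCoeff (((T (-(j : ℤ)) : A[T;T⁻¹]) * (RA.val I b)).coeff.filter (· ≤ 0))
      refine AddMonoidAlgebra.coeff_injective (Finsupp.ext fun n => ?_)
      rw [AddMonoidAlgebra.coeff_ofCoeff, Finsupp.filter_apply]
      split_ifs with h
      · rfl
      · rw [T_mul, T, AddMonoidAlgebra.coeff_mul_single_eq_coeff_mul (n + j) fun i _ => by omega, mul_one]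
        by_contra hne
        have := (Finset.le_sup (f := Int.toNat) (Finsupp.mem_support_iff.2 hne)).trans hj
        omega
    | add a b ha hb =>
      obtain ⟨ja, hja⟩ := ha
      obtain ⟨jb, hjb⟩ := hb
      exact ⟨max ja jb, fun j hj => by
        rw [smul_add, hja j (le_of_max_le_left hj), hjb j (le_of_max_le_right hj), map_add, map_add]⟩
  obtain ⟨j, hj⟩ := key x
  exact ⟨j, by rw [hj j le_rfl, hx, map_zero]⟩

variable {P Q R : Type u} [AddCommGroup P] [Module A P] [AddCommGroup Q] [Module A Q] [AddCommGroup R] [Module A R]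

/-- Finiteness is read off a complex mapping onto the Rees complex. -/
theorem reesFinite_of_complex [IsNoetherianRing A] (f : P →ₗ[A] Q) (g : Q →ₗ[A] R)
    {P' Q' R' : Type u} [AddCommGroup P'] [Module (RA I) P'] [AddCommGroup Q'] [Module (RA I) Q']
    [AddCommGroup R'] [Module (RA I) R']
    (f' : P' →ₗ[RA I] Q') (g' : Q' →ₗ[RA I] R')
    (ψP : P' →ₗ[RA I] A[T;T⁻¹] ⊗[A] P) (ψQ : Q' →ₗ[RA I] A[T;T⁻¹] ⊗[A] Q)
    (ψR : R' →ₗ[RA I] A[T;T⁻¹] ⊗[A] R) (hψR : Function.Injective ψR)
    (hP : LinearMap.range ψP = reesMod I P) (hQ : LinearMap.range ψQ = reesMod I Q)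
    (hf : ∀ x, ψQ (f' x) = f.baseChange A[T;T⁻¹] (ψP x))
    (hg : ∀ x, ψR (g' x) = g.baseChange A[T;T⁻¹] (ψQ x))
    (hgf' : ∀ x, g' (f' x) = 0)
    (hfin : Module.Finite (RA I) (LinearMap.ker g' ⧸
      LinearMap.range (f'.codRestrict (LinearMap.ker g') hgf'))) :
    ReesFinite I f g := by
  classical
  intro W hW
  let π := (LinearMap.range (f'.codRestrict (LinearMap.ker g') hgf')).mkQ
  let W' : Submodule (RA I) (LinearMap.ker g') := W.comap (ψQ ∘ₗ (LinearMap.ker g').subtype)
  obtain ⟨t, ht⟩ := (IsNoetherian.noetherian (W'.map π) : (W'.map π).FG)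
  have hlift : ∀ x ∈ t, ∃ w ∈ W', π w = x := fun x hx => (ht ▸ Submodule.subset_span hx : x ∈ W'.map π)
  choose w hw hwx using hlift
  refine ⟨t.attach.image fun x => ψQ (w x.1 x.2 : Q'), ?_, fun v hv => ?_⟩
  · intro y hy
    rw [Finset.coe_image] at hy
    obtain ⟨x, -, rfl⟩ := hy
    exact hw x.1 x.2
  obtain ⟨q, rfl⟩ : v ∈ LinearMap.range ψQ := hQ ▸ (hW hv).1
  have hq : q ∈ LinearMap.ker g' := hψR (((hg q).trans (hW hv).2).trans (map_zero ψR).symm)
  have him : π '' ↑(t.attach.image fun x => w x.1 x.2) = (↑t : Set _) := by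
    ext x
    simp only [Finset.coe_image, Set.mem_image, Finset.mem_coe, Finset.mem_attach, true_and]
    exact ⟨fun ⟨_, ⟨y, rfl⟩, e⟩ => e ▸ (hwx y.1 y.2).symm ▸ y.2, fun hx => ⟨_, ⟨⟨x, hx⟩, rfl⟩, hwx x hx⟩⟩
  have h2 : π ⟨q, hq⟩ ∈ Submodule.map π (Submodule.span (RA I) (↑(t.attach.image fun x => w x.1 x.2) : Set _)) := by
    rw [Submodule.map_span, him, ht]
    exact ⟨_, show (⟨q, hq⟩ : LinearMap.ker g') ∈ W' from hv, rfl⟩
  obtain ⟨a, ha, hae⟩ := h2
  obtain ⟨p, hp⟩ := (Submodule.Quotient.eq _).1 hae.symm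
  have hsum : a + f'.codRestrict (LinearMap.ker g') hgf' p = ⟨q, hq⟩ := by rw [hp, add_sub_cancel]
  rw [show q = ((a + f'.codRestrict (LinearMap.ker g') hgf' p : LinearMap.ker g') : Q') from
    (congrArg Subtype.val hsum).symm, Submodule.coe_add, map_add]
  refine Submodule.add_mem_sup ?_ ?_
  · have h := Submodule.mem_map_of_mem (f := ψQ ∘ₗ (LinearMap.ker g').subtype) ha
    rw [Submodule.map_span, ← Finset.coe_image, Finset.image_image] at h
    exact h
  · exact ⟨ψP p, hP ▸ ⟨p, rfl⟩, (hf p).symm⟩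

section Sheaf

variable {X : Scheme.{u}} [X.Over (Spec (CommRingCat.of A))] [IsNoetherianRing A]
  [IsProper (X ↘ Spec (CommRingCat.of A))]
  (F : X.Modules) {ι : Type u} [Finite ι] (U : ι → X.Opens)

/-- A tower of kernels on sections of a coherent sheaf is stationary. -/
lemma exists_ker_stable {Y : Scheme.{u}} [IsLocallyNoetherian Y] (G : Y.Modules) (hG : Coh.IsCoh G)
    {V : Y.Opens} (hV : IsAffineOpen V) (r : Γ(Y, V)) :
    ∃ n : ℕ, ∀ (j : ℕ) (x : Γ(G, V)), r ^ j • x = 0 → r ^ n • x = 0 := by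
  haveI := IsLocallyNoetherian.component_noetherian (X := Y) ⟨V, hV⟩
  haveI : Module.Finite Γ(Y, V) Γ(G, V) := (QC.isCoh_iff_finite_sections.mp hG).2 ⟨V, hV⟩
  let K : ℕ →o Submodule Γ(Y, V) Γ(G, V) :=
    ⟨fun j => LinearMap.ker (LinearMap.lsmul Γ(Y, V) Γ(G, V) (r ^ j)), fun a b hab x hx => by
      obtain ⟨c, rfl⟩ := Nat.exists_eq_add_of_le hab
      change r ^ (a + c) • x = 0
      rw [add_comm, pow_add, mul_smul, show r ^ a • x = 0 from hx, smul_zero]⟩
  obtain ⟨n, hn⟩ := monotone_stabilizes_iff_noetherian.mpr (inferInstanceAs (IsNoetherian Γ(Y, V) Γ(G, V))) K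
  refine ⟨n, fun j x hx => ?_⟩
  have h : x ∈ K (max n j) := K.monotone (le_max_right n j) hx
  rw [← hn _ (le_max_left n j)] at h
  exact h

set_option maxHeartbeats 4000000 in
/-- The cohomology of the Rees complex of a coherent sheaf on a proper scheme is finite. -/
theorem reesFinite_cech (hU : ∀ (n : ℕ) (a : Fin (n + 1) → ι), IsAffineOpen (tupleProd U a))
    (hcov : iSup U = ⊤) (hF : Coh.IsCoh F) (i p k : ℕ) (hi : (ComplexShape.up ℕ).prev p = i)
    (hk : (ComplexShape.up ℕ).next p = k) :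
    ReesFinite I (((W7Cech.CC A U).obj F).d i p).hom (((W7Cech.CC A U).obj F).d p k).hom := by
  classical
  let B := RA I
  let X' := pullback (X ↘ Spec (CommRingCat.of A)) (Spec.map (CommRingCat.ofHom (algebraMap A B)))
  letI : X'.Over (Spec (CommRingCat.of B)) := ⟨pullback.snd _ _⟩
  haveI : IsProper (X' ↘ Spec (CommRingCat.of B)) :=
    MorphismProperty.pullback_snd (P := @IsProper) _ _ inferInstance
  let g : X' ⟶ X := pullback.fst _ _
  have sq : IsPullback g (X' ↘ Spec (CommRingCat.of B)) (X ↘ Spec (CommRingCat.of A))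
      (Spec.map (CommRingCat.ofHom (algebraMap A B))) := IsPullback.of_hasPullback _ _
  haveI : IsLocallyNoetherian X' := LocallyOfFiniteType.isLocallyNoetherian (X' ↘ Spec (CommRingCat.of B))
  let F' := (Scheme.Modules.pullback g).obj F
  have hF' : Coh.IsCoh F' := QC.isCoh_pullback g hF
  let V := W7Cech.pre g U
  have hV := W7Cech.isAffineOpen_pre A B g sq U hU
  have hcov' := W7Cech.iSup_pre g U hcov
  -- the torsion is killed by a fixed power
  have hstab : ∀ n : ℕ, ∃ m : ℕ, ∀ (j : ℕ) (x : (W7Cech.CoX B V F' n : Type u)),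
      sPar I j • x = 0 → sPar I m • x = 0 := by
    intro n
    choose m hm using fun a : Fin (n + 1) → ι => exists_ker_stable F' hF' (hV n a)
      (W7Cech.secRing B (tupleProd V a) (sPar I 1))
    haveI := Fintype.ofFinite (Fin (n + 1) → ι)
    refine ⟨Finset.univ.sup m, fun j x hx => funext fun a => ?_⟩
    have hxa : W7Cech.secRing B (tupleProd V a) (sPar I j) • (show Γ(F', tupleProd V a) from x a) = 0 :=
      congrFun hx a
    rw [sPar_eq_pow, map_pow] at hxa
    change W7Cech.secRing B (tupleProd V a) (sPar I (Finset.univ.sup m)) • (show Γ(F', tupleProd V a) from x a) = 0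
    obtain ⟨c, hc⟩ := Nat.exists_eq_add_of_le (Finset.le_sup (f := m) (Finset.mem_univ a))
    rw [sPar_eq_pow, map_pow, hc, add_comm, pow_add, mul_smul, hm a j _ hxa, smul_zero]
  choose m hm using hstab
  let N := max (m i) (max (m p) (m k))
  let μ : F' ⟶ F' := Formal.smulMod B F' (sPar I N)
  let G := Abelian.image μ
  have hG : Coh.IsCoh G := QC.isCoh_of_epi hF' (QC.isQCoh_image hF'.1 hF'.1 μ) (Abelian.factorThruImage μ)
  let CA := (W7Cech.CC A U).obj F
  let CG := (W7Cech.CC B V).obj G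
  -- cochains of the pullback
  letI modA : ∀ n, Module A (W7Cech.CoX B V F' n : Type u) := fun n =>
    Module.compHom (W7Cech.CoX B V F' n : Type u) (algebraMap A B)
  haveI : ∀ n, IsScalarTower A B (W7Cech.CoX B V F' n : Type u) := fun n =>
    IsScalarTower.of_algebraMap_smul fun _ _ => rfl
  let θ : ∀ n, (B ⊗[A] (CA.X n : Type u)) ≃ₗ[B] (W7Cech.CoX B V F' n : Type u) := fun n =>
    (W7Cech.isBaseChange_psiX A B g sq U F hU hF.1 n).equiv
  have hθ : ∀ n (b : B) (x : CA.X n), θ n (b ⊗ₜ[A] x) =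
      b • (show (W7Cech.CoX B V F' n : Type u) from W7Cech.psiX A B g U F n sq x) := fun n b x =>
    IsBaseChange.equiv_tmul _ b x
  have hθd : ∀ (n n' : ℕ) (x : B ⊗[A] (CA.X n : Type u)),
      (((W7Cech.CC B V).obj F').d n n').hom (θ n x) = θ n' ((CA.d n n').hom.baseChange B x) := by
    intro n n' x
    by_cases h : (ComplexShape.up ℕ).Rel n n'
    · obtain rfl : n + 1 = n' := h
      induction x using TensorProduct.induction_on with
      | zero => simp
      | tmul b x =>
        rw [LinearMap.baseChange_tmul, hθ, hθ, LinearMap.map_smul]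
        refine congrArg (b • ·) ?_
        rw [W7Cech.CC_d, W7Cech.CC_d]
        exact W7Cech.psiX_d A B g sq U F n x
      | add a b ha hb => simp only [map_add, ha, hb]
    · rw [HomologicalComplex.shape _ _ _ h, HomologicalComplex.shape _ _ _ h]
      simp
  let Ti : ∀ n, A[T;T⁻¹] ⊗[A] (CA.X n : Type u) →ₗ[B] A[T;T⁻¹] ⊗[A] (CA.X n : Type u) := fun n =>
    (LinearMap.lsmul A[T;T⁻¹] (A[T;T⁻¹] ⊗[A] (CA.X n : Type u)) (T (N : ℤ))).restrictScalars B
  let inc : ∀ n, (CG.X n : Type u) →ₗ[B] (W7Cech.CoX B V F' n : Type u) := fun n =>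
    (((W7Cech.CC B V).map (Abelian.image.ι μ)).f n).hom
  let ψ : ∀ n, (CG.X n : Type u) →ₗ[B] A[T;T⁻¹] ⊗[A] (CA.X n : Type u) := fun n =>
    Ti n ∘ₗ mu I (CA.X n) ∘ₗ (θ n).symm.toLinearMap ∘ₗ inc n
  have hinc : ∀ n, Function.Injective (inc n) := fun n x y h => funext fun a =>
    QC.app_injective_of_mono (Abelian.image.ι μ) (tupleProd V a) (congrFun h a)
  have hrange : ∀ n z, ∃ x : (W7Cech.CoX B V F' n : Type u), inc n z = sPar I N • x := by
    intro n z
    choose x hx using fun a => QC.app_surjective_of_epi (hV n a) hF'.1 hG.1 (Abelian.factorThruImage μ)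
      (show Γ(G, tupleProd V a) from z a)
    refine ⟨fun a => x a, funext fun a => ?_⟩
    refine Eq.trans (congrArg ((Abelian.image.ι μ).app (tupleProd V a)) (hx a).symm) ?_
    exact congr(($(Abelian.image.fac μ)).app (tupleProd V a) (x a))
  have hex : ∀ n (x : (W7Cech.CoX B V F' n : Type u)), ∃ z, inc n z = sPar I N • x := fun n x =>
    ⟨fun a => ((Abelian.factorThruImage μ).app (tupleProd V a) (show Γ(F', tupleProd V a) from x a) :),
      funext fun a => congr(($(Abelian.image.fac μ)).app (tupleProd V a) (x a))⟩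
  have hTi : ∀ n (x : B ⊗[A] (CA.X n : Type u)), Ti n (mu I _ (sPar I N • x)) = mu I _ x := by
    intro n x
    rw [map_smul]
    change (T (N : ℤ) : A[T;T⁻¹]) • ((T (-(N : ℤ)) : A[T;T⁻¹]) • mu I (CA.X n) x) = _
    rw [smul_smul, ← T_add, add_neg_cancel, T_zero, one_smul]
  have hψrange : ∀ n, LinearMap.range (ψ n) = reesMod I (CA.X n) := by
    intro n
    refine le_antisymm ?_ ?_
    · rintro _ ⟨z, rfl⟩
      obtain ⟨x, hx⟩ := hrange n z
      refine ⟨(θ n).symm x, ?_⟩
      change mu I _ ((θ n).symm x) = Ti n (mu I _ ((θ n).symm (inc n z)))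
      rw [hx, map_smul, hTi]
    · rintro _ ⟨x, rfl⟩
      obtain ⟨z, hz⟩ := hex n (θ n x)
      refine ⟨z, ?_⟩
      change Ti n (mu I _ ((θ n).symm (inc n z))) = _
      rw [hz, map_smul, LinearEquiv.symm_apply_apply, hTi]
      rfl
  have hψinj : ∀ n, m n ≤ N → Function.Injective (ψ n) := by
    intro n hn
    refine (injective_iff_map_eq_zero _).2 fun z hz => hinc n ?_
    rw [map_zero]
    obtain ⟨x, hx⟩ := hrange n z
    change Ti n (mu I _ ((θ n).symm (inc n z))) = 0 at hz
    rw [hx, map_smul, hTi] at hz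
    obtain ⟨j, hj⟩ := exists_smul_eq_zero_of_mu I hz
    rw [← map_smul, LinearEquiv.map_eq_zero_iff] at hj
    have := hm n j x hj
    obtain ⟨c, hc⟩ := Nat.exists_eq_add_of_le hn
    rw [hx, show sPar I N = sPar I c * sPar I (m n) by rw [sPar_eq_pow, sPar_eq_pow I c, sPar_eq_pow I (m n), ← pow_add,
      add_comm, ← hc], mul_smul, this, smul_zero]
  have hψd : ∀ n n' z, ψ n' ((CG.d n n').hom z) = (CA.d n n').hom.baseChange A[T;T⁻¹] (ψ n z) := by
    intro n n' z
    change (T (N : ℤ) : A[T;T⁻¹]) • mu I _ ((θ n').symm (inc n' ((CG.d n n').hom z))) =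
      (CA.d n n').hom.baseChange A[T;T⁻¹] ((T (N : ℤ) : A[T;T⁻¹]) • mu I _ ((θ n).symm (inc n z)))
    rw [show inc n' ((CG.d n n').hom z) = (((W7Cech.CC B V).obj F').d n n').hom (inc n z) from
      congr($(((W7Cech.CC B V).map (Abelian.image.ι μ)).comm n n').hom z).symm,
      LinearMap.map_smul, ← mu_baseChange]
    congr 2
    rw [LinearEquiv.symm_apply_eq, ← hθd, LinearEquiv.apply_symm_apply]
  refine reesFinite_of_complex I _ _ (CG.d i p).hom (CG.d p k).hom (ψ i) (ψ p) (ψ k)
    (hψinj k ((le_max_right _ _).trans (le_max_right _ _))) (hψrange i) (hψrange p) (hψd i p) (hψd p k)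
    (fun x => congr($(CG.d_comp_d i p k).hom x)) ?_
  obtain ⟨e, -⟩ := W7Cech.exists_hhEquiv B V hV hcov' p
  haveI : Module.Finite B (CG.homology p) :=
    haveI := CohFinite.finite_proper B X' G hG p
    Module.Finite.equiv (e G hG.1).symm
  subst hi hk
  exact Module.Finite.equiv (FlatCx.homologyHmEquiv CG p)

end Sheaf

end Groth.Agent.W7Rees
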