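import Mathlib

/-!
The extended Rees algebra of an ideal and what finiteness of the cohomology of the Rees complex says
about a complex filtered by the powers of the ideal.
-/

set_option autoImplicit false
set_option backward.isDefEq.respectTransparency false
set_option linter.style.haveILetI false
set_option maxHeartbeats 1000000

universe u

open TensorProduct LaurentPolynomial
open scoped LaurentPolynomial

noncomputable section

namespace Groth.Agent.W7Rees

variable {A : Type u} [CommRing A] (I : Ideal A)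

/-- The extended Rees algebra. -/
def extRees : Subalgebra A A[T;T⁻¹] where
  carrier := {f | ∀ n : ℤ, f.coeff n ∈ I ^ n.toNat}
  mul_mem' {f g} hf hg n := by
    classical
    rw [AddMonoidAlgebra.coeff_mul]
    simp only [Finsupp.sum, Finset.sum_apply]
    refine Ideal.sum_mem _ fun i _ => Ideal.sum_mem _ fun j _ => ?_
    split_ifs with h
    · subst h
      exact Ideal.pow_le_pow_right (by omega) (pow_add I i.toNat j.toNat ▸ Ideal.mul_mem_mul (hf i) (hg j))
    · exact zero_mem _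
  add_mem' {f g} hf hg n := by
    rw [AddMonoidAlgebra.coeff_add, Finsupp.add_apply]
    exact add_mem (hf n) (hg n)
  algebraMap_mem' r n := by
    rw [← LaurentPolynomial.C_eq_algebraMap, ← LaurentPolynomial.single_eq_C, AddMonoidAlgebra.coeff_single,
      Finsupp.single_apply]
    split_ifs with h
    · subst h
      simp
    · exact zero_mem _

lemma mem_extRees {f : A[T;T⁻¹]} : f ∈ extRees I ↔ ∀ n : ℤ, f.coeff n ∈ I ^ n.toNat := Iff.rfl

lemma coeff_C_mul_T (a : A) (i n : ℤ) : (C a * T i).coeff n = if i = n then a else 0 := by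
  rw [← LaurentPolynomial.single_eq_C_mul_T, AddMonoidAlgebra.coeff_single, Finsupp.single_apply]

lemma C_mul_T_mem {a : A} {i : ℤ} (ha : a ∈ I ^ i.toNat) : C a * T i ∈ extRees I := fun n => by
  rw [coeff_C_mul_T]
  split_ifs with h
  · exact h ▸ ha
  · exact zero_mem _

lemma T_neg_mem (j : ℕ) : (T (-(j : ℤ)) : A[T;T⁻¹]) ∈ extRees I := by
  have := C_mul_T_mem I (a := (1 : A)) (i := -(j : ℤ)) (by simp)
  rwa [map_one, one_mul] at this

lemma eq_sum_support (f : A[T;T⁻¹]) : f = ∑ n ∈ f.coeff.support, C (f.coeff n) * T n := by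
  conv_lhs => rw [← AddMonoidAlgebra.sum_coeff_single f]
  rw [Finsupp.sum]
  exact Finset.sum_congr rfl fun n _ => LaurentPolynomial.single_eq_C_mul_T _ _

lemma extRees_le (S : Subalgebra A A[T;T⁻¹]) (h₁ : T (-1) ∈ S) (h₂ : ∀ a ∈ I, C a * T 1 ∈ S) :
    extRees I ≤ S := by
  intro f hf
  rw [eq_sum_support f]
  refine Subalgebra.sum_mem _ fun n _ => ?_
  have hC : ∀ c : A, C c ∈ S := fun c => by
    rw [LaurentPolynomial.C_eq_algebraMap]
    exact S.algebraMap_mem c
  obtain hn | hn := le_total n 0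
  · obtain ⟨j, rfl⟩ := Int.exists_eq_neg_ofNat hn
    refine mul_mem (hC _) ?_
    have h := pow_mem h₁ j
    rwa [T_pow, mul_neg_one] at h
  · obtain ⟨j, rfl⟩ := Int.eq_ofNat_of_zero_le hn
    have hj : f.coeff (j : ℤ) ∈ I ^ j := by simpa using hf (j : ℤ)
    have hc : ∀ c ∈ I ^ j, C c * T (j : ℤ) ∈ S := by
      intro c hc
      clear hn hj
      rename_i hsupp
      clear hsupp
      induction hc using Submodule.pow_induction_on_left' with
      | algebraMap r => rw [Nat.cast_zero, T_zero, mul_one]; exact hC _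
      | add x y i _ _ hx hy => rw [map_add, add_mul]; exact add_mem hx hy
      | mem_mul m hm i x _ hx =>
        rw [map_mul, Nat.cast_succ, add_comm, T_add]
        exact (mul_mul_mul_comm (C m) (C x) (T 1) (T (i : ℤ))).symm ▸ mul_mem (h₂ m hm) hx
    exact hc _ hj

theorem extRees_fg (hI : I.FG) : (extRees I).FG := by
  classical
  obtain ⟨s, hs⟩ := hI
  refine ⟨insert (T (-1)) (s.image fun a => C a * T 1), le_antisymm (Algebra.adjoin_le ?_) ?_⟩
  · intro x hx
    rw [Finset.coe_insert, Finset.coe_image, Set.mem_insert_iff, Set.mem_image] at hx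
    obtain rfl | ⟨a, ha, rfl⟩ := hx
    · exact T_neg_mem I 1
    · exact C_mul_T_mem I (by simpa using hs ▸ Ideal.subset_span ha)
  · refine extRees_le I _ (Algebra.subset_adjoin (by simp)) fun a ha => ?_
    rw [← hs] at ha
    induction ha using Submodule.span_induction with
    | mem x hx => exact Algebra.subset_adjoin (by simp [Finset.coe_image]; exact Or.inr ⟨x, hx, rfl⟩)
    | zero => rw [map_zero, zero_mul]; exact zero_mem _
    | add x y _ _ hx hy => rw [map_add, add_mul]; exact add_mem hx hy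
    | smul r x _ hx =>
      rw [smul_eq_mul, map_mul, mul_assoc, LaurentPolynomial.C_eq_algebraMap, ← Algebra.smul_def]
      exact Subalgebra.smul_mem _ hx r

/-- The extended Rees algebra as a ring in its own right. -/
def RA : Type u := ↥(extRees I)

instance : CommRing (RA I) := inferInstanceAs (CommRing ↥(extRees I))

instance : Algebra A (RA I) := inferInstanceAs (Algebra A ↥(extRees I))

/-- The inclusion into Laurent polynomials. -/
def RA.val : RA I →ₐ[A] A[T;T⁻¹] := (extRees I).val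

instance : Algebra (RA I) A[T;T⁻¹] := (RA.val I).toRingHom.toAlgebra

instance : IsScalarTower A (RA I) A[T;T⁻¹] :=
  IsScalarTower.of_algebraMap_eq fun a => ((RA.val I).commutes a).symm

variable {I} in
/-- An element of the extended Rees algebra. -/
def RA.mk (f : A[T;T⁻¹]) (hf : f ∈ extRees I) : RA I := (⟨f, hf⟩ : ↥(extRees I))

lemma RA.val_mem (b : RA I) (n : ℤ) : (RA.val I b).coeff n ∈ I ^ n.toNat := Subtype.prop b n

lemma RA.val_injective : Function.Injective (RA.val I) := Subtype.val_injective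

instance [IsNoetherianRing A] : Algebra.FiniteType A (RA I) :=
  ⟨(Subalgebra.fg_top _).2 (extRees_fg I (IsNoetherian.noetherian I))⟩

instance [IsNoetherianRing A] : IsNoetherianRing (RA I) :=
  Algebra.FiniteType.isNoetherianRing A _

section Comp

variable {M N : Type u} [AddCommGroup M] [Module A M] [AddCommGroup N] [Module A N]

/-- Coefficient. -/
def coeffL (n : ℤ) : A[T;T⁻¹] →ₗ[A] A where
  toFun f := f.coeff n
  map_add' f g := by rw [AddMonoidAlgebra.coeff_add, Finsupp.add_apply]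
  map_smul' r f := by rw [AddMonoidAlgebra.coeff_smul, Finsupp.smul_apply, RingHom.id_apply]

/-- Component of degree `n`. -/
def comp (n : ℤ) : A[T;T⁻¹] ⊗[A] M →ₗ[A] M :=
  (TensorProduct.lid A M).toLinearMap ∘ₗ (coeffL n).rTensor M

lemma comp_tmul (n : ℤ) (f : A[T;T⁻¹]) (m : M) : comp n (f ⊗ₜ[A] m) = f.coeff n • m := by
  rw [comp, LinearMap.comp_apply, LinearMap.rTensor_tmul]
  exact TensorProduct.lid_tmul _ _

lemma comp_T_tmul (n i : ℤ) (m : M) : comp n ((T i : A[T;T⁻¹]) ⊗ₜ[A] m) = if i = n then m else 0 := by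
  rw [comp_tmul, show (T i : A[T;T⁻¹]) = C 1 * T i by rw [map_one, one_mul], coeff_C_mul_T]
  split_ifs
  · exact one_smul _ _
  · exact zero_smul _ _

lemma exists_decomp (x : A[T;T⁻¹] ⊗[A] M) :
    ∃ S : Finset ℤ, ∀ S', S ⊆ S' → x = ∑ n ∈ S', (T n : A[T;T⁻¹]) ⊗ₜ[A] comp n x := by
  classical
  induction x using TensorProduct.induction_on with
  | zero => exact ⟨∅, fun S' _ => by simp⟩
  | tmul f m =>
    refine ⟨f.coeff.support, fun S' hS' => ?_⟩
    have h : f = ∑ n ∈ S', C (f.coeff n) * T n := by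
      refine (eq_sum_support f).trans (Finset.sum_subset hS' fun n _ hn => ?_)
      rw [Finsupp.notMem_support_iff.1 hn, map_zero, zero_mul]
    conv_lhs => rw [h, TensorProduct.sum_tmul]
    refine Finset.sum_congr rfl fun n _ => ?_
    rw [comp_tmul, ← TensorProduct.smul_tmul, LaurentPolynomial.smul_eq_C_mul]
  | add a b ha hb =>
    obtain ⟨S, hS⟩ := ha
    obtain ⟨S₂, hS₂⟩ := hb
    refine ⟨S ∪ S₂, fun S' h => ?_⟩
    simp only [map_add, TensorProduct.tmul_add, Finset.sum_add_distrib]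
    rw [← hS S' (Finset.union_subset_left h), ← hS₂ S' (Finset.union_subset_right h)]

lemma comp_baseChange (g : M →ₗ[A] N) (n : ℤ) (x : A[T;T⁻¹] ⊗[A] M) :
    comp n (g.baseChange A[T;T⁻¹] x) = g (comp n x) := by
  induction x using TensorProduct.induction_on with
  | zero => simp
  | tmul f m => rw [LinearMap.baseChange_tmul, comp_tmul, comp_tmul, map_smul]
  | add a b ha hb => rw [map_add, map_add, ha, hb, map_add, map_add]

variable (M) in
/-- The Rees module inside the Laurent tensors. -/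
def reesMod : Submodule (RA I) (A[T;T⁻¹] ⊗[A] M) :=
  LinearMap.range (AlgebraTensorModule.map (Algebra.linearMap (RA I) A[T;T⁻¹]) (LinearMap.id : M →ₗ[A] M))

lemma comp_mem {x : A[T;T⁻¹] ⊗[A] M} (hx : x ∈ reesMod I M) (n : ℤ) :
    comp n x ∈ I ^ n.toNat • (⊤ : Submodule A M) := by
  obtain ⟨y, rfl⟩ := hx
  induction y using TensorProduct.induction_on with
  | zero => simp
  | tmul f m =>
    rw [AlgebraTensorModule.map_tmul, comp_tmul]
    exact Submodule.smul_mem_smul (RA.val_mem I f n) Submodule.mem_top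
  | add a b ha hb => rw [map_add, map_add]; exact add_mem ha hb

lemma C_mul_T_tmul_mem {a : A} {n : ℤ} (ha : a ∈ I ^ n.toNat) (m : M) :
    (C a * T n) ⊗ₜ[A] m ∈ reesMod I M :=
  ⟨(⟨_, C_mul_T_mem I ha⟩ : extRees I) ⊗ₜ[A] m, rfl⟩

lemma T_tmul_mem {y : M} {n : ℤ} (hy : y ∈ I ^ n.toNat • (⊤ : Submodule A M)) :
    (T n : A[T;T⁻¹]) ⊗ₜ[A] y ∈ reesMod I M := by
  refine Submodule.smul_induction_on (p := fun y => (T n : A[T;T⁻¹]) ⊗ₜ[A] y ∈ reesMod I M) hy
    (fun a ha m _ => ?_) fun a b ha hb => ?_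
  · rw [← TensorProduct.smul_tmul, LaurentPolynomial.smul_eq_C_mul]
    exact C_mul_T_tmul_mem I ha m
  · rw [TensorProduct.tmul_add]; exact add_mem ha hb

lemma comp_smul (b : extRees I) (x : A[T;T⁻¹] ⊗[A] M) (S : Finset ℤ)
    (hS : x = ∑ n ∈ S, (T n : A[T;T⁻¹]) ⊗ₜ[A] comp n x) (k : ℤ) :
    comp k (b • x) = ∑ i ∈ S, (RA.val I b).coeff (k - i) • comp i x := by
  conv_lhs => rw [hS, Finset.smul_sum, map_sum]
  refine Finset.sum_congr rfl fun i _ => ?_
  rw [TensorProduct.smul_tmul', comp_tmul]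
  congr 1
  change ((RA.val I b) * T i).coeff k = _
  rw [T, AddMonoidAlgebra.coeff_mul_single_eq_coeff_mul (k - i) fun j _ => by omega, mul_one]

end Comp

section Key

variable {P Q R : Type u} [AddCommGroup P] [Module A P] [AddCommGroup Q] [Module A Q] [AddCommGroup R] [Module A R]
  (f : P →ₗ[A] Q) (g : Q →ₗ[A] R)

/-- The differential on Laurent tensors. -/
abbrev lau (g : Q →ₗ[A] R) : A[T;T⁻¹] ⊗[A] Q →ₗ[extRees I] A[T;T⁻¹] ⊗[A] R :=
  (g.baseChange A[T;T⁻¹]).restrictScalars (RA I)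

/-- The cocycles of the Rees complex. -/
def reesZ : Submodule (RA I) (A[T;T⁻¹] ⊗[A] Q) := reesMod I Q ⊓ LinearMap.ker (lau I g)

/-- The coboundaries of the Rees complex. -/
def reesB : Submodule (RA I) (A[T;T⁻¹] ⊗[A] Q) := (reesMod I P).map (lau I f)

/-- Finiteness of the cohomology of the Rees complex: submodules of cocycles are finitely generated modulo
coboundaries. -/
def ReesFinite : Prop :=
  ∀ W : Submodule (RA I) (A[T;T⁻¹] ⊗[A] Q), W ≤ reesZ I g →
    ∃ s : Finset (A[T;T⁻¹] ⊗[A] Q), (↑s : Set (A[T;T⁻¹] ⊗[A] Q)) ⊆ W ∧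
      W ≤ Submodule.span (RA I) ↑s ⊔ reesB I f

variable {I f g}

/-- Cocycles deep in the filtration come from shallower ones times powers of the ideal. -/
theorem exists_mem_smul_ker (hfin : ReesFinite I f g) :
    ∃ c : ℕ, ∀ k, c ≤ k → ∀ r : ℕ,
      (I ^ (k + r) • ⊤ : Submodule A Q) ⊓ LinearMap.ker g ≤
        I ^ r • ((I ^ k • ⊤ : Submodule A Q) ⊓ LinearMap.ker g) ⊔ (I ^ (k + r) • ⊤ : Submodule A P).map f := by
  classical
  obtain ⟨s, hs, hspan⟩ := hfin _ le_rfl
  choose S hS using fun z : A[T;T⁻¹] ⊗[A] Q => exists_decomp z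
  refine ⟨(s.biUnion S).sup Int.toNat, fun k hk r y hy => ?_⟩
  have he : (T ((k + r : ℕ) : ℤ) : A[T;T⁻¹]) ⊗ₜ[A] y ∈ reesZ I g := by
    refine ⟨T_tmul_mem I (by rw [Int.toNat_natCast]; exact hy.1), ?_⟩
    change g.baseChange A[T;T⁻¹] _ = 0
    rw [LinearMap.baseChange_tmul, LinearMap.mem_ker.1 hy.2, TensorProduct.tmul_zero]
  have key : ∀ x ∈ Submodule.span (RA I) (↑s : Set (A[T;T⁻¹] ⊗[A] Q)), ∀ b : extRees I,
      comp ((k + r : ℕ) : ℤ) (b • x) ∈ I ^ r • ((I ^ k • ⊤ : Submodule A Q) ⊓ LinearMap.ker g) := by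
    intro x hx
    induction hx using Submodule.span_induction with
    | mem z hz =>
      intro b
      rw [comp_smul I b z (S z) (hS z _ subset_rfl)]
      refine Submodule.sum_mem _ fun i hi => ?_
      have hic : i.toNat ≤ k := (Finset.le_sup (f := Int.toNat) (Finset.mem_biUnion.2 ⟨z, hz, hi⟩)).trans hk
      obtain ⟨e, he'⟩ := Nat.exists_eq_add_of_le (show r ≤ (((k + r : ℕ) : ℤ) - i).toNat by omega)
      have hz' := hs hz
      have hb : (RA.val I b).coeff (((k + r : ℕ) : ℤ) - i) ∈ I ^ r * I ^ e := by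
        rw [← pow_add, ← he']
        exact RA.val_mem I b _
      have hZ : comp i z ∈ (I ^ i.toNat • ⊤ : Submodule A Q) ⊓ LinearMap.ker g := by
        refine ⟨comp_mem I hz'.1 i, ?_⟩
        rw [SetLike.mem_coe, LinearMap.mem_ker, ← comp_baseChange]
        rw [show g.baseChange A[T;T⁻¹] z = 0 from hz'.2, map_zero]
      have := Submodule.smul_mem_smul hb hZ
      rw [Submodule.mul_smul] at this
      refine Submodule.smul_mono le_rfl ?_ this
      refine le_inf ((Submodule.smul_mono le_rfl inf_le_left).trans ?_)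
        (Submodule.smul_le_right.trans inf_le_right)
      rw [← Submodule.mul_smul, ← pow_add]
      exact Submodule.smul_mono_left (Ideal.pow_le_pow_right (by omega))
    | zero => intro b; rw [smul_zero, map_zero]; exact zero_mem _
    | add a c _ _ ha hc => intro b; rw [smul_add, map_add]; exact add_mem (ha b) (hc b)
    | smul a x _ hx => intro b; rw [smul_smul]; exact hx _
  obtain ⟨x, hx, w, hw, hxw⟩ := Submodule.mem_sup.1 (hspan he)
  obtain ⟨u, hu, rfl⟩ := hw
  have h := congrArg (comp ((k + r : ℕ) : ℤ)) hxw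
  rw [comp_T_tmul, if_pos rfl, map_add] at h
  rw [← h]
  refine Submodule.add_mem_sup ?_ ?_
  · simpa using key x hx 1
  · change comp _ (f.baseChange A[T;T⁻¹] u) ∈ _
    rw [comp_baseChange]
    exact Submodule.mem_map_of_mem (by simpa only [Int.toNat_natCast] using comp_mem I hu ((k + r : ℕ) : ℤ))

/-- A coboundary deep in the filtration is the coboundary of a slightly shallower element. -/
theorem exists_mem_map_of_range (hgf : g ∘ₗ f = 0) (hfin : ReesFinite I f g) :
    ∃ c : ℕ, ∀ k, c ≤ k →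
      (I ^ k • ⊤ : Submodule A Q) ⊓ LinearMap.range f ≤ (I ^ (k - c) • ⊤ : Submodule A P).map f := by
  classical
  let W := reesMod I Q ⊓ LinearMap.range (lau I f)
  have hW : W ≤ reesZ I g := by
    rintro _ ⟨hx, u, rfl⟩
    refine ⟨hx, ?_⟩
    change g.baseChange A[T;T⁻¹] (f.baseChange A[T;T⁻¹] u) = 0
    rw [← LinearMap.comp_apply, ← LinearMap.baseChange_comp, hgf, LinearMap.baseChange_zero, LinearMap.zero_apply]
  obtain ⟨s, hs, hspan⟩ := hfin W hW
  have hkill : ∀ z ∈ W, ∃ j : ℕ, ∀ j', j ≤ j' → (⟨_, T_neg_mem I j'⟩ : extRees I) • z ∈ reesB I f := by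
    rintro _ ⟨-, u, rfl⟩
    obtain ⟨S, hS⟩ := exists_decomp u
    refine ⟨S.sup Int.toNat, fun j hj => ⟨_, ?_, map_smul (lau I f) _ u⟩⟩
    rw [hS S subset_rfl, Finset.smul_sum]
    refine Submodule.sum_mem _ fun i hi => ?_
    rw [TensorProduct.smul_tmul']
    change ((T (-(j : ℤ)) : A[T;T⁻¹]) * T i) ⊗ₜ[A] comp i u ∈ _
    rw [← T_add]
    refine T_tmul_mem I ?_
    have : i.toNat ≤ j := (Finset.le_sup (f := Int.toNat) hi).trans hj
    rw [show (-(j : ℤ) + i).toNat = 0 by omega, pow_zero, one_smul]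
    trivial
  choose J hJ using hkill
  refine ⟨s.attach.sup fun z => J z.1 (hs z.2), fun k hk y hy => ?_⟩
  let c := s.attach.sup fun z => J z.1 (hs z.2)
  let sc : extRees I := ⟨_, T_neg_mem I c⟩
  have hkills : ∀ x ∈ Submodule.span (RA I) (↑s : Set (A[T;T⁻¹] ⊗[A] Q)), sc • x ∈ reesB I f := by
    intro x hx
    induction hx using Submodule.span_induction with
    | mem z hz => exact hJ z (hs hz) c (Finset.le_sup (f := fun z : s => J z.1 (hs z.2)) (Finset.mem_attach s ⟨z, hz⟩))
    | zero => rw [smul_zero]; exact zero_mem _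
    | add a b _ _ ha hb => rw [smul_add]; exact add_mem ha hb
    | smul a x _ hx => rw [smul_comm]; exact Submodule.smul_mem _ a hx
  obtain ⟨u, rfl⟩ := hy.2
  have he : (T (k : ℤ) : A[T;T⁻¹]) ⊗ₜ[A] f u ∈ W :=
    ⟨T_tmul_mem I (by rw [Int.toNat_natCast]; exact hy.1), (T (k : ℤ) : A[T;T⁻¹]) ⊗ₜ[A] u,
      LinearMap.baseChange_tmul _ _ _⟩
  obtain ⟨x, hx, w, hw, hxw⟩ := Submodule.mem_sup.1 (hspan he)
  have : sc • ((T (k : ℤ) : A[T;T⁻¹]) ⊗ₜ[A] f u) ∈ reesB I f := by
    rw [← hxw, smul_add]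
    exact add_mem (hkills x hx) (Submodule.smul_mem _ _ hw)
  obtain ⟨v, hv, hfv⟩ := this
  have h := congrArg (comp ((k - c : ℕ) : ℤ)) hfv
  rw [TensorProduct.smul_tmul'] at h
  change comp _ (f.baseChange A[T;T⁻¹] v) = comp _ (((T (-(c : ℤ)) : A[T;T⁻¹]) * T (k : ℤ)) ⊗ₜ[A] f u) at h
  rw [comp_baseChange, ← T_add, comp_T_tmul, if_pos (by omega)] at h
  rw [← h]
  exact Submodule.mem_map_of_mem (by simpa only [Int.toNat_natCast] using comp_mem I hv ((k - c : ℕ) : ℤ))

end Key

end Groth.Agent.W7Rees
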